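import Cfsg.Agent.Lib.MacWilliams.Coord

/-!
A two-group without normal elementary abelian subgroups of order eight has sectional rank at most
four.
-/

set_option autoImplicit false
set_option linter.style.haveILetI false
set_option linter.unusedSectionVars false

open scoped commutatorElement

namespace CfsgLib.MacWilliams

universe u

variable {P : Type u} [Group P] [Finite P]

/-- The identity matrix. -/
abbrev mI : Mt := ((1, 0), (0, 1))

/-- The nilpotent matrix fixed by the transvection. -/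
abbrev mE : Mt := ((0, 0), (1, 0))

/-- The nilpotent transpose of `mE`. -/
abbrev mF : Mt := ((0, 1), (0, 0))

/-- The matrix unit in the first place. -/
abbrev mU : Mt := ((1, 0), (0, 0))

/-- A matrix of order three. -/
abbrev mS : Mt := ((1, 1), (1, 0))

/-- The square of `mS`. -/
abbrev mS' : Mt := ((0, 1), (1, 1))

/-- The third nilpotent matrix. -/
abbrev mN : Mt := ((1, 1), (1, 1))

/-- `1 + N` is invertible. -/
def NoFix (N : Mt) : Prop := ∀ v : Vec, app N v = v → v = 0

/-- `N` is invertible. -/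
def NoKer (N : Mt) : Prop := ∀ v : Vec, app N v = 0 → v = 0

namespace Coord

variable {A : Subgroup P} {a₁ a₂ : P} (hC : Coord A a₁ a₂)
include hC

/-- An element of `C(A)` outside `A` has a power with square in `A` outside `Ω₁(A)`. -/
theorem exists_top_power {μ : P} (hμ : μ ∈ Subgroup.centralizer (A : Set P)) (hμA : μ ∉ A) :
    ∃ k : ℕ, μ ^ k ∉ A ∧ μ ^ k * μ ^ k ∈ A ∧ μ ^ k * μ ^ k ∉ omegaOf A := by
  classical
  obtain ⟨m, hm⟩ := hC.frame.isPGroup μ
  have hex : ∃ k, μ ^ 2 ^ k ∈ A := ⟨m, by rw [hm]; exact one_mem A⟩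
  set k := Nat.find hex with hk
  have hspec := Nat.find_spec hex
  rw [← hk] at hspec
  have hk0 : k ≠ 0 := fun h0 => hμA (by rwa [h0, pow_zero, pow_one] at hspec)
  refine ⟨2 ^ (k - 1), Nat.find_min hex (by omega), ?_, fun h => ?_⟩
  · rw [← pow_add, ← two_mul, ← pow_succ', show k - 1 + 1 = k by omega]
    exact hspec
  · exact Nat.find_min hex (show k - 1 < k by omega)
      (hC.frame.mem_of_sq_mem_omegaOf (pow_mem hμ _) h)

/-- An element of `C(A)` inverted by `h` is an involution of `A` when `1 + ν h` is invertible. -/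
theorem mem_omegaOf_of_inverted {h μ : P} (hh : Commute h (a₂ * a₂))
    (hN : NoFix (nu a₁ a₂ h)) (hμ : μ ∈ Subgroup.centralizer (A : Set P))
    (hinv : h * μ * h⁻¹ = μ⁻¹) : μ ∈ omegaOf A := by
  have key : ∀ e ∈ A, h * e * h⁻¹ = e⁻¹ → e ∈ omegaOf A := by
    intro e he hei
    rw [hC.nu_spec hh he] at hei
    have h1 : sigma a₁ a₂ (app (nu a₁ a₂ h) (cl a₁ a₂ e)) = sigma a₁ a₂ (cl a₁ a₂ e) := by
      rw [hC.sigma_cl he, eq_inv_mul_of_mul_eq hei]
      exact ((mul_inv_rev e e).symm).trans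
        (inv_eq_of_mul_eq_one_left (hC.frame.sq_mem_omegaOf he).2)
    exact (hC.cl_eq_zero_iff he).mp (hN _ (hC.sigma_injective h1))
  by_cases hμA : μ ∈ A
  · exact key μ hμA hinv
  obtain ⟨k, hk1, hk2, hk3⟩ := hC.exists_top_power hμ hμA
  refine absurd (key _ hk2 ?_) hk3
  have e : h * μ ^ k * h⁻¹ = (μ ^ k)⁻¹ := by rw [← conj_pow, hinv, inv_pow]
  rw [show h * (μ ^ k * μ ^ k) * h⁻¹ = (h * μ ^ k * h⁻¹) * (h * μ ^ k * h⁻¹) by group, e,
    ← mul_inv_rev]

/-- An element of `C(A)` fixed by `h` is an involution of `A` when `ν h` is invertible. -/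
theorem mem_omegaOf_of_fixed {h μ : P} (hh : Commute h (a₂ * a₂))
    (hN : NoKer (nu a₁ a₂ h)) (hμ : μ ∈ Subgroup.centralizer (A : Set P))
    (hfix : h * μ * h⁻¹ = μ) : μ ∈ omegaOf A := by
  have key : ∀ e ∈ A, h * e * h⁻¹ = e → e ∈ omegaOf A := by
    intro e he hei
    rw [hC.nu_spec hh he, mul_eq_left] at hei
    exact (hC.cl_eq_zero_iff he).mp (hN _ (hC.sigma_eq_one hei))
  by_cases hμA : μ ∈ A
  · exact key μ hμA hfix
  obtain ⟨k, hk1, hk2, hk3⟩ := hC.exists_top_power hμ hμA
  refine absurd (key _ hk2 ?_) hk3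
  have e : h * μ ^ k * h⁻¹ = μ ^ k := by rw [← conj_pow, hfix]
  rw [show h * (μ ^ k * μ ^ k) * h⁻¹ = (h * μ ^ k * h⁻¹) * (h * μ ^ k * h⁻¹) by group, e]

theorem sq_mem_centralizer {h : P} (hh : Commute h (a₂ * a₂)) :
    h * h ∈ Subgroup.centralizer (A : Set P) :=
  (hC.nu_eq_zero_iff (hh.mul_left hh)).mp (by rw [hC.nu_mul hh hh, mt_add_self])

theorem sq_mem_omegaOf_of_noKer {h : P} (hh : Commute h (a₂ * a₂)) (hN : NoKer (nu a₁ a₂ h)) :
    h * h ∈ omegaOf A :=
  hC.mem_omegaOf_of_fixed hh hN (hC.sq_mem_centralizer hh) (by group)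

theorem fix_commute_omegaOf {h b : P} (hh : Commute h (a₂ * a₂)) (hb : b ∈ omegaOf A) :
    Commute h b := by
  obtain ⟨v, rfl⟩ := hC.sigma_surjOn hb
  exact mul_inv_eq_iff_eq_mul.mp (hC.conj_sigma_of_fix hh v)

/-- No element with square in `Ω₁(A)` acts by a fixed matrix `N ≠ 0` with `1 + N` invertible. -/
theorem false_of_fixed_matrix {h : P} (hh : Commute h (a₂ * a₂)) (hne : nu a₁ a₂ h ≠ 0)
    (hN : NoFix (nu a₁ a₂ h))
    (htw : ∀ g : P, ¬ Commute g (a₂ * a₂) → tw (nu a₁ a₂ h) = nu a₁ a₂ h)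
    (hsq : h * h ∈ omegaOf A) : False := by
  set N := nu a₁ a₂ h with hNdef
  -- an involution in the coset
  obtain ⟨v, hv⟩ := hC.sigma_surjOn hsq
  obtain ⟨w, hw⟩ : ∃ w, w + app N w = v := by
    have hinj : Function.Injective fun w : Vec => w + app N w := by
      intro x y hxy
      simp only at hxy
      have h2 : ∀ (x y p q : Vec), x + p = y + q → p + q = x + y := by decide
      have h4 : ∀ (x y : Vec), x + y = 0 → x = y := by decide
      refine h4 x y (hN _ ?_)
      rw [app_add_right]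
      exact h2 x y _ _ hxy
    exact (Finite.injective_iff_surjective.mp hinj) v
  obtain ⟨a, ha, hav⟩ := hC.exists_rep w
  set i := h * a with hi
  have hhM : ∀ μ ∈ Subgroup.centralizer (A : Set P), Commute μ (a₂ * a₂) :=
    fun μ hμ => hC.centralizer_le_fix hμ
  have haM : a ∈ Subgroup.centralizer (A : Set P) := hC.frame.le_centralizer ha
  have hfi : Commute i (a₂ * a₂) := hh.mul_left (hhM a haM)
  have hni : nu a₁ a₂ i = N := by
    rw [hi, hC.nu_mul hh (hhM a haM), (hC.nu_eq_zero_iff (hhM a haM)).mpr haM, add_zero]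
  have hii : i * i = 1 := by
    have hc1 : Commute (sigma a₁ a₂ (app N w)) (h * h) :=
      hC.frame.commute (hC.frame.omegaOf_le (hC.sigma_mem _)) (hC.frame.omegaOf_le hsq)
    have hc2 : Commute (h * h) a := hC.frame.commute (hC.frame.omegaOf_le hsq) ha
    calc i * i = (h * a * h⁻¹) * ((h * h) * a) := by rw [hi]; group
      _ = (a * sigma a₁ a₂ (app N w)) * (a * (h * h)) := by rw [hC.nu_spec hh ha, hav, hc2.eq]
      _ = (a * a) * (sigma a₁ a₂ (app N w) * (h * h)) :=
          ((hC.frame.commute (hC.frame.omegaOf_le (hC.sigma_mem _)) ha)).mul_mul_mul_comm _ _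
      _ = sigma a₁ a₂ w * (sigma a₁ a₂ (app N w) * sigma a₁ a₂ v) := by
          rw [← hC.sigma_cl ha, hav, ← hv]
      _ = 1 := by
          rw [← hC.sigma_add, ← hC.sigma_add, ← add_assoc, hw, vec_add_self, hC.sigma_zero]
  -- the involutions of the coset form one coset of `Ω₁(A)`
  have hconj : ∀ g : P, i⁻¹ * (g * i * g⁻¹) ∈ omegaOf A := by
    intro g
    have hfg : Commute (g * i * g⁻¹) (a₂ * a₂) := hC.fix_conj hfi g
    have hng : nu a₁ a₂ (g * i * g⁻¹) = N := by
      by_cases hg : Commute g (a₂ * a₂)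
      · rw [hC.nu_conj_of_fix hg hfi, hni]
      · rw [hC.nu_conj_of_not_fix hg hfi, hni, htw g hg]
    set μ := i⁻¹ * (g * i * g⁻¹) with hμ
    have hμM : μ ∈ Subgroup.centralizer (A : Set P) :=
      (hC.nu_eq_zero_iff (hfi.inv_left.mul_left hfg)).mp (by
        rw [hC.nu_mul hfi.inv_left hfg, hC.nu_inv hfi, hni, hng, mt_add_self])
    refine hC.mem_omegaOf_of_inverted hfi (by rw [hni]; exact hN) hμM ?_
    have h2 : i * μ * (i * μ) = 1 := by
      calc i * μ * (i * μ) = g * (i * i) * g⁻¹ := by rw [hμ]; group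
        _ = 1 := by rw [hii]; group
    have h3 : i⁻¹ = i := inv_eq_of_mul_eq_one_left hii
    rw [h3]
    exact eq_inv_of_mul_eq_one_left (by rw [← h2]; group)
  have hiA : i ∉ omegaOf A := fun hi' => hne (by
    rw [← hni]
    exact (hC.nu_eq_zero_iff hfi).mpr (hC.frame.le_centralizer (hC.frame.omegaOf_le hi')))
  haveI := hC.frame.omegaOf_normal
  set E := omegaOf A ⊔ Subgroup.zpowers i with hE
  have hmem : ∀ x ∈ E, ∃ b ∈ omegaOf A, ∃ k : ℤ, b * i ^ k = x := fun x hx => by
    obtain ⟨b, hb, _, ⟨k, rfl⟩, rfl⟩ := Subgroup.mem_sup_of_normal_left.mp hx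
    exact ⟨b, hb, k, rfl⟩
  have hEn : E.Normal := by
    refine ⟨fun x hx g => ?_⟩
    obtain ⟨b, hb, k, rfl⟩ := hmem x hx
    rw [show g * (b * i ^ k) * g⁻¹ = (g * b * g⁻¹) * (i * (i⁻¹ * (g * i * g⁻¹))) ^ k by
      rw [mul_inv_cancel_left, conj_zpow]; group]
    exact mul_mem (Subgroup.mem_sup_left (hC.frame.conj_mem_omegaOf hb g))
      (zpow_mem (mul_mem (Subgroup.mem_sup_right (Subgroup.mem_zpowers i))
        (Subgroup.mem_sup_left (hconj g))) k)
  have hEc : ∀ b ∈ omegaOf A, Commute b i := fun b hb => (hC.fix_commute_omegaOf hfi hb).symm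
  have hE4 := hC.frame.small E hEn ⟨⟨fun x y => Subtype.ext (by
    obtain ⟨b, hb, k, hx⟩ := hmem x x.2
    obtain ⟨b', hb', k', hy⟩ := hmem y y.2
    show (x : P) * y = y * x
    rw [← hx, ← hy]
    exact (((hC.frame.commute (hC.frame.omegaOf_le hb) (hC.frame.omegaOf_le hb')).mul_right
      ((hEc b hb).zpow_right k')).mul_left (((hEc b' hb').symm.zpow_left k).mul_right
        ((Commute.refl i).zpow_zpow k k'))).eq)⟩⟩ fun x hx => by
    obtain ⟨b, hb, k, rfl⟩ := hmem x hx
    rw [((hEc b hb).zpow_right k).mul_pow, pow_two b, hb.2, one_mul, ← zpow_natCast, ← zpow_mul,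
      mul_comm, zpow_mul, zpow_natCast, pow_two, hii, one_zpow]
  have hlt : omegaOf A < E := lt_of_le_of_ne le_sup_left fun h' =>
    hiA (h' ▸ Subgroup.mem_sup_right (Subgroup.mem_zpowers i))
  have : Nat.card (omegaOf A) < Nat.card E := Set.Finite.card_lt_card (Set.toFinite _) hlt
  have := hC.cardB
  omega

/-- `(h k)²` and `h²` agree modulo `Ω₁(A)` when `ν k` has neither kernel nor fixed vectors. -/
theorem sq_mul_mem {h k : P} (hh : Commute h (a₂ * a₂)) (hk : Commute k (a₂ * a₂))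
    (hk1 : NoKer (nu a₁ a₂ k)) (hk2 : NoFix (nu a₁ a₂ k)) :
    (h * k * (h * k))⁻¹ * (h * h) ∈ omegaOf A := by
  have hkk := hC.sq_mem_omegaOf_of_noKer hk hk1
  set c := h * k * h⁻¹ * k⁻¹ with hc
  have hcM : c ∈ Subgroup.centralizer (A : Set P) := by
    refine (hC.nu_eq_zero_iff (((hh.mul_left hk).mul_left hh.inv_left).mul_left hk.inv_left)).mp ?_
    rw [hC.nu_mul ((hh.mul_left hk).mul_left hh.inv_left) hk.inv_left,
      hC.nu_mul (hh.mul_left hk) hh.inv_left, hC.nu_mul hh hk, hC.nu_inv hh, hC.nu_inv hk]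
    exact (by decide : ∀ x y : Mt, x + y + x + y = 0) _ _
  have hcB : c ∈ omegaOf A := by
    refine hC.mem_omegaOf_of_inverted hk hk2 hcM (eq_inv_of_mul_eq_one_left ?_)
    have hcomm : Commute (k * k) h := (hC.fix_commute_omegaOf hh hkk).symm
    calc k * c * k⁻¹ * c = k * h * k * h⁻¹ * (k * k)⁻¹ * h * k * h⁻¹ * k⁻¹ := by rw [hc]; group
      _ = k * h * k * h⁻¹ * ((k * k)⁻¹ * h) * k * h⁻¹ * k⁻¹ := by group
      _ = k * h * k * h⁻¹ * (h * (k * k)⁻¹) * k * h⁻¹ * k⁻¹ := by rw [hcomm.inv_left.eq]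
      _ = 1 := by group
  have h1 : Commute h c⁻¹ := hC.fix_commute_omegaOf hh (inv_mem hcB)
  have e : h * k * (h * k) = h * h * (c⁻¹ * (k * k)) := by
    calc h * k * (h * k) = h * c⁻¹ * h * (k * k) := by rw [hc]; group
      _ = h * (h * c⁻¹) * (k * k) := by rw [mul_assoc h c⁻¹ h, h1.eq]
      _ = h * h * (c⁻¹ * (k * k)) := by group
  rw [e, mul_inv_rev, mul_assoc, inv_mul_cancel, mul_one]
  exact inv_mem (mul_mem (inv_mem hcB) hkk)

/-- The group does not induce all automorphisms fixing the involutions. -/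
theorem not_all_matrices :
    ¬ (mS ∈ hC.image ⊤ ∧ mS' ∈ hC.image ⊤ ∧ mE ∈ hC.image ⊤) := by
  rintro ⟨⟨k, -, hk, hkS⟩, ⟨k', -, hk', hkS'⟩, ⟨h, -, hh, hhE⟩⟩
  have h1 := hC.sq_mul_mem hh hk (by rw [hkS]; unfold NoKer; decide)
    (by rw [hkS]; unfold NoFix; decide)
  have h2 := hC.sq_mul_mem (hh.mul_left hk) hk' (by rw [hkS']; unfold NoKer; decide)
    (by rw [hkS']; unfold NoFix; decide)
  have h3 := hC.sq_mem_omegaOf_of_noKer ((hh.mul_left hk).mul_left hk') (by
    rw [hC.nu_mul (hh.mul_left hk) hk', hC.nu_mul hh hk, hhE, hkS, hkS']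
    unfold NoKer; decide)
  have h4 : h * h ∈ omegaOf A := by
    have := mul_mem (mul_mem h3 h2) h1
    simpa [mul_assoc] using this
  exact hC.false_of_fixed_matrix hh (by rw [hhE]; decide) (by rw [hhE]; unfold NoFix; decide)
    (fun g _ => by rw [hhE]; decide) h4

theorem card_image_le_eight : Nat.card (hC.image ⊤) ≤ 8 := by
  have hdvd := AddSubgroup.card_addSubgroup_dvd_card (hC.image ⊤)
  have h16 : Nat.card Mt = 16 := by simp
  by_contra hcon
  have htop : hC.image ⊤ = ⊤ := AddSubgroup.eq_top_of_card_eq _ (by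
    rw [h16]
    have hle := Nat.le_of_dvd (by rw [h16]; norm_num) hdvd
    rw [h16] at hdvd hle
    generalize Nat.card (hC.image ⊤) = x at *
    interval_cases x <;> omega)
  exact hC.not_all_matrices
    ⟨htop ▸ AddSubgroup.mem_top _, htop ▸ AddSubgroup.mem_top _, htop ▸ AddSubgroup.mem_top _⟩

/-- An invertible matrix makes `C(A)` abelian modulo `Ω₁(A)`. -/
theorem commutator_mem_omegaOf {h : P} (hh : Commute h (a₂ * a₂)) (hN : NoKer (nu a₁ a₂ h))
    {μ ν : P} (hμ : μ ∈ Subgroup.centralizer (A : Set P))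
    (hν : ν ∈ Subgroup.centralizer (A : Set P)) : μ * ν * μ⁻¹ * ν⁻¹ ∈ omegaOf A := by
  have hβ : ∀ x ∈ Subgroup.centralizer (A : Set P), h * x * h⁻¹ * x ∈ omegaOf A := by
    intro x hx
    have hxf := hC.centralizer_le_fix hx
    have h1 : (h * x) * (h * x) ∈ omegaOf A :=
      hC.sq_mem_omegaOf_of_noKer (hh.mul_left hxf) (by
        rw [hC.nu_mul hh hxf, (hC.nu_eq_zero_iff hxf).mpr hx, add_zero]; exact hN)
    have h2 := hC.sq_mem_omegaOf_of_noKer hh hN
    have hcm : Commute x (h * h) :=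
      (hC.frame.commute_centralizer (hC.frame.omegaOf_le h2) hx).symm
    have e : h * x * h⁻¹ * x = ((h * x) * (h * x)) * (h * h)⁻¹ := by
      calc h * x * h⁻¹ * x = h * x * h⁻¹ * (x * (h * h)) * (h * h)⁻¹ := by group
        _ = h * x * h⁻¹ * ((h * h) * x) * (h * h)⁻¹ := by rw [hcm.eq]
        _ = ((h * x) * (h * x)) * (h * h)⁻¹ := by group
    rw [e]
    exact mul_mem h1 (inv_mem h2)
  set b := h * μ⁻¹ * h⁻¹ * μ⁻¹ with hb
  set b' := h * ν⁻¹ * h⁻¹ * ν⁻¹ with hb'
  have hbB : b ∈ omegaOf A := hβ _ (inv_mem hμ)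
  have hb'B : b' ∈ omegaOf A := hβ _ (inv_mem hν)
  set d := h * (μ⁻¹ * ν⁻¹) * h⁻¹ * (μ⁻¹ * ν⁻¹) with hd
  have hdB : d ∈ omegaOf A := hβ _ (mul_mem (inv_mem hμ) (inv_mem hν))
  have hcm : Commute b' μ := hC.frame.commute_centralizer (hC.frame.omegaOf_le hb'B) hμ
  have key : μ * ν * μ⁻¹ * ν⁻¹ = (b * b')⁻¹ * d := by
    have e : d = b * b' * (μ * ν * μ⁻¹ * ν⁻¹) := by
      calc d = b * (μ * b') * (ν * μ⁻¹ * ν⁻¹) := by rw [hd, hb, hb']; group
        _ = b * (b' * μ) * (ν * μ⁻¹ * ν⁻¹) := by rw [hcm.eq]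
        _ = b * b' * (μ * ν * μ⁻¹ * ν⁻¹) := by group
    rw [e, inv_mul_cancel_left]
  rw [key]
  exact mul_mem (inv_mem (mul_mem hbB hb'B)) hdB

/-- The squares of a subgroup of `C(A)` modulo `Ω₁(A)`. -/
theorem exists_sq_of_mem_sqSub {h : P} (hh : Commute h (a₂ * a₂)) (hN : NoKer (nu a₁ a₂ h))
    {H : Subgroup P} (hH : H ≤ Subgroup.centralizer (A : Set P)) {x : P} (hx : x ∈ sqSub H) :
    ∃ η ∈ H, ∃ b ∈ omegaOf A, x = η * η * b := by
  induction hx using Subgroup.closure_induction with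
  | mem y hy =>
    obtain ⟨z, hz, rfl⟩ := hy
    exact ⟨z, hz, 1, one_mem _, (mul_one _).symm⟩
  | one => exact ⟨1, one_mem H, 1, one_mem _, by simp⟩
  | mul y z _ _ ihy ihz =>
    obtain ⟨η, hη, b, hb, rfl⟩ := ihy
    obtain ⟨η', hη', b', hb', rfl⟩ := ihz
    set c := η⁻¹ * η' * η * η'⁻¹ with hc
    have hcB : c ∈ omegaOf A := by
      have := hC.commutator_mem_omegaOf hh hN (inv_mem (hH hη)) (hH hη')
      simpa [hc] using this
    have hcη : Commute c η' := hC.frame.commute_centralizer (hC.frame.omegaOf_le hcB) (hH hη')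
    have hbη : Commute b (η' * η') :=
      hC.frame.commute_centralizer (hC.frame.omegaOf_le hb) (mul_mem (hH hη') (hH hη'))
    refine ⟨η * η', mul_mem hη hη', c⁻¹ * (b * b'), mul_mem (inv_mem hcB) (mul_mem hb hb'), ?_⟩
    have e : (η * η') * (η * η') = η * η * (η' * η') * c := by
      calc (η * η') * (η * η') = η * η * c * (η' * η') := by rw [hc]; group
        _ = η * η * ((η' * η') * c) := by rw [mul_assoc _ c, (hcη.mul_right hcη).eq]
        _ = η * η * (η' * η') * c := by group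
    rw [e]
    calc η * η * b * (η' * η' * b') = η * η * (b * (η' * η')) * b' := by group
      _ = η * η * ((η' * η') * b) * b' := by rw [hbη.eq]
      _ = η * η * (η' * η') * c * (c⁻¹ * (b * b')) := by group
  | inv y _ ih =>
    obtain ⟨η, hη, b, hb, rfl⟩ := ih
    refine ⟨η⁻¹, inv_mem hη, b⁻¹, inv_mem hb, ?_⟩
    have hbη : Commute b⁻¹ (η⁻¹ * η⁻¹) := hC.frame.commute_centralizer
      (hC.frame.omegaOf_le (inv_mem hb)) (mul_mem (inv_mem (hH hη)) (inv_mem (hH hη)))
    rw [mul_inv_rev, mul_inv_rev]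
    exact hbη.eq

/-- A fixed matrix `N` with `1 + N` invertible cannot come from an element whose square is a
square in `H ∩ C(A)`. -/
theorem false_of_lift {k : P} (hk : Commute k (a₂ * a₂)) (hkN : NoKer (nu a₁ a₂ k)) {h : P}
    (hh : Commute h (a₂ * a₂)) (hne : nu a₁ a₂ h ≠ 0) (hN : NoFix (nu a₁ a₂ h))
    (htw : ∀ g : P, ¬ Commute g (a₂ * a₂) → tw (nu a₁ a₂ h) = nu a₁ a₂ h) {H : Subgroup P}
    (hH : H ≤ Subgroup.centralizer (A : Set P)) (hsq : h * h ∈ sqSub H) : False := by
  obtain ⟨η, hη, b, hb, he⟩ := hC.exists_sq_of_mem_sqSub hk hkN hH hsq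
  have hηM := hH hη
  have hηf := hC.centralizer_le_fix hηM
  set h' := h * η⁻¹ with hh'
  have hh'f : Commute h' (a₂ * a₂) := hh.mul_left hηf.inv_left
  have hn' : nu a₁ a₂ h' = nu a₁ a₂ h := by
    rw [hh', hC.nu_mul hh hηf.inv_left,
      (hC.nu_eq_zero_iff hηf.inv_left).mpr (inv_mem hηM), add_zero]
  refine hC.false_of_fixed_matrix hh'f (hn' ▸ hne) (hn' ▸ hN) (fun g hg => hn' ▸ htw g hg) ?_
  set c := h' * h' with hc
  have hcM := hC.sq_mem_centralizer hh'f
  have hbh : Commute h b := hC.fix_commute_omegaOf hh hb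
  have hbη : Commute b η := hC.frame.commute_centralizer (hC.frame.omegaOf_le hb) hηM
  have hbi : b⁻¹ = b := inv_eq_of_mul_eq_one_left hb.2
  have hc1 : c = h * η⁻¹ * h⁻¹ * η * b := by
    calc c = h * η⁻¹ * h⁻¹ * (h * h) * η⁻¹ := by rw [hc, hh']; group
      _ = h * η⁻¹ * h⁻¹ * (η * η * b) * η⁻¹ := by rw [he]
      _ = h * η⁻¹ * h⁻¹ * η * (η * b) * η⁻¹ := by group
      _ = h * η⁻¹ * h⁻¹ * η * (b * η) * η⁻¹ := by rw [hbη.eq]
      _ = h * η⁻¹ * h⁻¹ * η * b := by group
  have hc2 : h * c * h⁻¹ = c⁻¹ := by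
    have hcb : Commute b (η⁻¹ * (h * η * h⁻¹)) :=
      (hbη.inv_right).mul_right (((hbh.symm).mul_right hbη).mul_right hbh.symm.inv_right)
    calc h * c * h⁻¹ = (h * h) * η⁻¹ * (h * h)⁻¹ * (h * η * (b * h⁻¹)) := by rw [hc1]; group
      _ = (η * η * b) * η⁻¹ * (η * η * b)⁻¹ * (h * η * (h⁻¹ * b)) := by
          rw [he, hbh.symm.inv_right.eq]
      _ = η * η * (b * η⁻¹) * b⁻¹ * η⁻¹ * η⁻¹ * (h * η * h⁻¹ * b) := by group
      _ = η * η * (η⁻¹ * b) * b⁻¹ * η⁻¹ * η⁻¹ * (h * η * h⁻¹ * b) := by rw [hbη.inv_right.eq]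
      _ = η⁻¹ * (h * η * h⁻¹) * b := by group
      _ = b⁻¹ * (η⁻¹ * (h * η * h⁻¹)) := by rw [hbi, hcb.eq]
      _ = c⁻¹ := by rw [hc1]; group
  have hc3 : h⁻¹ * c * h = c⁻¹ := by
    have := congrArg (fun z => h⁻¹ * z⁻¹ * h) hc2
    calc h⁻¹ * c * h = h⁻¹ * (c⁻¹)⁻¹ * h := by rw [inv_inv]
      _ = h⁻¹ * (h * c * h⁻¹)⁻¹ * h := this.symm
      _ = c⁻¹ := by group
  have hc4 : η⁻¹ * c * η = c⁻¹ := by
    rw [← hc3]
    calc η⁻¹ * c * η = h⁻¹ * (h' * c * h'⁻¹) * h := by rw [hh']; group
      _ = h⁻¹ * c * h := by rw [hc]; group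
  have hc5 : c * c ∈ omegaOf A := by
    have h5 := hC.commutator_mem_omegaOf hk hkN (inv_mem hηM) hcM
    rw [inv_inv, hc4] at h5
    have := inv_mem h5
    simpa [mul_inv_rev] using this
  have hcA : c ∈ A := hC.frame.mem_of_sq_mem_omegaOf hcM hc5
  refine hC.frame.mem_omegaOf.mpr ⟨hcA, ?_⟩
  have hcη : Commute c η := hC.frame.commute_centralizer hcA hηM
  rw [mul_assoc, hcη.eq, inv_mul_cancel_left] at hc4
  exact eq_inv_iff_mul_eq_one.mp hc4

/-- The bound when `|A| = 16`. -/
theorem card_le (H : Subgroup P) : Nat.card H ≤ 16 * Nat.card (sqSub H) := by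
  by_contra hcon
  push Not at hcon
  -- the index of the squares is a power of two
  have h32 : 32 * Nat.card (sqSub H) ≤ Nat.card H := by
    obtain ⟨d, hd⟩ := Subgroup.card_dvd_of_le (sqSub_le H)
    have hd' : d ∣ Nat.card H := ⟨_, by rw [hd, mul_comm]⟩
    haveI := Fact.mk Nat.prime_two
    obtain ⟨m, hm⟩ := (hC.frame.isPGroup.to_subgroup H).exists_card_eq
    rw [hm] at hd'
    obtain ⟨j, -, rfl⟩ := (Nat.dvd_prime_pow Nat.prime_two).mp hd'
    rw [hd, mul_comm 16] at hcon
    have hj : 5 ≤ j := by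
      by_contra hj
      have := Nat.pow_le_pow_right (show 2 > 0 by norm_num) (show j ≤ 4 by omega)
      have := Nat.mul_le_mul_left (Nat.card (sqSub H)) this
      omega
    rw [hd, mul_comm 32]
    exact Nat.mul_le_mul_left _ ((Nat.pow_le_pow_right (show 2 > 0 by norm_num) hj).trans'
      (by norm_num))
  set F := Subgroup.centralizer ({a₂ * a₂} : Set P) with hF
  set M := Subgroup.centralizer (A : Set P) with hM
  have hSF : sqSub H ≤ F := sqSub_le_iff.mpr fun x _ =>
    Subgroup.mem_centralizer_singleton_iff.mpr (hC.sq_mem_fix x)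
  have e1 := hC.card_inf_fix H
  have e2 := hC.card_inf_fix (sqSub H)
  rw [inf_eq_left.mpr hSF] at e2
  obtain ⟨hc1, hc2⟩ := hC.frame.card_le_centralizer_part H
  set R := hC.image H with hR
  set Φ := hC.image (sqSub H) with hΦ
  have hsq0 : 0 < Nat.card (sqSub (H ⊓ M)) := Nat.card_pos
  have hR8 : Nat.card R ≤ 8 := (Nat.le_of_dvd Nat.card_pos (AddSubgroup.card_dvd_of_le
    (hC.image_mono le_top))).trans hC.card_image_le_eight
  have h16 : Nat.card Mt = 16 := by simp
  have hRdvd : Nat.card R ∣ 16 := h16 ▸ AddSubgroup.card_addSubgroup_dvd_card R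
  have hΦdvd : Nat.card Φ ∣ 16 := h16 ▸ AddSubgroup.card_addSubgroup_dvd_card Φ
  have hΦ0 : 0 < Nat.card Φ := Nat.card_pos
  -- the squares in `C(A)` are the squares of `H ∩ C(A)` once enough is known
  have hfinish : sqSub (H ⊓ M) = sqSub H ⊓ M → ∀ {k : P}, Commute k (a₂ * a₂) →
      NoKer (nu a₁ a₂ k) → ∀ N ∈ R, N ≠ 0 → NoFix N →
      (∀ g : P, ¬ Commute g (a₂ * a₂) → tw N = N) → False := by
    intro heq k hk hkN N hN hN0 hNf hNtw
    obtain ⟨h, hhH, hh, rfl⟩ := hN
    refine hC.false_of_lift hk hkN hh hN0 hNf hNtw (inf_le_right : H ⊓ M ≤ M) ?_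
    rw [heq]
    exact ⟨mul_self_mem_sqSub hhH, hC.sq_mem_centralizer hh⟩
  have heq_of : ∀ r f : ℕ, Nat.card R = r → Nat.card Φ = f →
      32 * (f * Nat.card ↥(sqSub H ⊓ M)) ≤ 8 * f * (4 * Nat.card (sqSub (H ⊓ M))) →
      sqSub (H ⊓ M) = sqSub H ⊓ M := by
    intro r f hr hf hle
    refine Subgroup.eq_of_le_of_card_ge
      (le_inf (sqSub_mono inf_le_left) ((sqSub_le _).trans inf_le_right)) ?_
    refine Nat.le_of_mul_le_mul_left ?_ (show 0 < 32 * f by omega)
    calc 32 * f * Nat.card ↥(sqSub H ⊓ M) = 32 * (f * Nat.card ↥(sqSub H ⊓ M)) := by ring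
      _ ≤ 8 * f * (4 * Nat.card (sqSub (H ⊓ M))) := hle
      _ = 32 * f * Nat.card (sqSub (H ⊓ M)) := by ring
  by_cases hHF : H ≤ F
  · -- `H` fixes the involutions
    rw [inf_eq_left.mpr hHF] at e1
    have key : 32 * (Nat.card Φ * Nat.card ↥(sqSub H ⊓ M)) ≤
        Nat.card R * (4 * Nat.card (sqSub (H ⊓ M))) := by
      rw [← e2]
      exact h32.trans (e1.le.trans (Nat.mul_le_mul_left _ hc1))
    have key2 : 8 * Nat.card Φ ≤ Nat.card R := by
      refine Nat.le_of_mul_le_mul_right (c := 4 * Nat.card (sqSub (H ⊓ M))) ?_ (by omega)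
      calc 8 * Nat.card Φ * (4 * Nat.card (sqSub (H ⊓ M)))
          ≤ 8 * Nat.card Φ * (4 * Nat.card ↥(sqSub H ⊓ M)) :=
            Nat.mul_le_mul_left _ (Nat.mul_le_mul_left _ hc2)
        _ = 32 * (Nat.card Φ * Nat.card ↥(sqSub H ⊓ M)) := by ring
        _ ≤ _ := key
    have hR8' : Nat.card R = 8 := by omega
    have heq := heq_of 8 (Nat.card Φ) hR8' rfl (key.trans (by
      rw [hR8']; exact Nat.mul_le_mul_right _ (by omega)))
    have hRtop : R = hC.image ⊤ := AddSubgroup.eq_of_le_of_card_ge (hC.image_mono le_top)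
      (hC.card_image_le_eight.trans hR8'.ge)
    have hidx : R.index = 2 := by
      have := R.card_mul_index
      rw [h16, hR8'] at this
      omega
    have h3 : ∀ x y : Mt, x ∉ R → y ∉ R → x + y ∈ R := fun x y hx hy =>
      (AddSubgroup.add_mem_iff_of_index_two hidx).mpr (iff_of_false hx hy)
    -- an invertible matrix
    obtain ⟨K, hK, hKN⟩ : ∃ K ∈ R, NoKer K := by
      by_cases hS : mS ∈ R
      · exact ⟨_, hS, by unfold NoKer; decide⟩
      by_cases hS' : mS' ∈ R
      · exact ⟨_, hS', by unfold NoKer; decide⟩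
      exact ⟨_, h3 _ _ hS hS', by unfold NoKer; decide⟩
    obtain ⟨k, -, hk, rfl⟩ := hK
    by_cases htriv : ∀ g : P, Commute g (a₂ * a₂)
    · obtain ⟨N, hN, hN0, hNf⟩ : ∃ N ∈ R, N ≠ 0 ∧ NoFix N := by
        by_cases hE : mE ∈ R
        · exact ⟨_, hE, by decide, by unfold NoFix; decide⟩
        by_cases hF' : mF ∈ R
        · exact ⟨_, hF', by decide, by unfold NoFix; decide⟩
        by_cases hN' : mN ∈ R
        · exact ⟨_, hN', by decide, by unfold NoFix; decide⟩
        by_cases hS : mS ∈ R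
        · exact ⟨_, hS, by decide, by unfold NoFix; decide⟩
        by_cases hS' : mS' ∈ R
        · exact ⟨_, hS', by decide, by unfold NoFix; decide⟩
        refine absurd ?_ hE
        have h := add_mem (add_mem (h3 _ _ hE hN') (h3 _ _ hE hF'))
          (add_mem (h3 _ _ hN' hS) (h3 _ _ hN' hS'))
        rwa [show (mE + mN) + (mE + mF) + ((mN + mS) + (mN + mS')) = mE by decide] at h
      exact hfinish heq hk hKN N hN hN0 hNf fun g hg => absurd (htriv g) hg
    · push Not at htriv
      obtain ⟨g₀, hg₀⟩ := htriv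
      have hE : mE ∈ R := by
        have htwR : ∀ X ∈ R, X + tw X ∈ R := by
          intro X hX
          refine add_mem hX ?_
          rw [hRtop] at hX ⊢
          obtain ⟨x, -, hx, rfl⟩ := hX
          exact ⟨g₀ * x * g₀⁻¹, Subgroup.mem_top _, hC.fix_conj hx g₀,
            hC.nu_conj_of_not_fix hg₀ hx⟩
        by_contra hE
        by_cases hU : mU ∈ R
        · have h := htwR _ hU
          rw [show mU + tw mU = mE by decide] at h
          exact hE h
        · have h := htwR _ (h3 _ _ hE hU)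
          rw [show mE + mU + tw (mE + mU) = mE by decide] at h
          exact hE h
      exact hfinish heq hk hKN _ hE (by decide) (by unfold NoFix; decide)
        fun g _ => by decide
  · -- some element of `H` moves the involutions
    obtain ⟨t, htH, htF⟩ := SetLike.not_le_iff_exists.mp hHF
    have htF' : ¬ Commute t (a₂ * a₂) := fun h => htF (Subgroup.mem_centralizer_singleton_iff.mpr h)
    have h2 : Nat.card H ≤ 2 * Nat.card ↥(H ⊓ F) := by
      classical
      let f : H → ↥(H ⊓ F) × Bool := fun x =>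
        if hx : (x : P) ∈ F then (⟨x, x.2, hx⟩, true)
        else (⟨t⁻¹ * x, H.mul_mem (H.inv_mem htH) x.2, Subgroup.mem_centralizer_singleton_iff.mpr
          (hC.inv_mul_mem_fix htF' fun h => hx (Subgroup.mem_centralizer_singleton_iff.mpr h))⟩,
          false)
      have hf : Function.Injective f := by
        intro x y hxy
        simp only [f] at hxy
        split_ifs at hxy with hx hy
        all_goals
          simp only [Prod.mk.injEq, Bool.true_eq_false, Bool.false_eq_true,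
            and_false, and_true] at hxy
        · exact Subtype.ext (congrArg Subtype.val hxy :)
        · exact Subtype.ext (mul_left_cancel (congrArg Subtype.val hxy))
      refine (Nat.card_le_card_of_injective f hf).trans ?_
      rw [Nat.card_prod, Nat.card_eq_fintype_card (α := Bool), Fintype.card_bool, mul_comm]
    have key : 32 * (Nat.card Φ * Nat.card ↥(sqSub H ⊓ M)) ≤
        2 * Nat.card R * (4 * Nat.card (sqSub (H ⊓ M))) := by
      rw [← e2, mul_assoc 2]
      exact h32.trans (h2.trans (Nat.mul_le_mul_left _ (e1.le.trans (Nat.mul_le_mul_left _ hc1))))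
    have key2 : 4 * Nat.card Φ ≤ Nat.card R := by
      refine Nat.le_of_mul_le_mul_right (c := 8 * Nat.card (sqSub (H ⊓ M))) ?_ (by omega)
      calc 4 * Nat.card Φ * (8 * Nat.card (sqSub (H ⊓ M)))
          ≤ 4 * Nat.card Φ * (8 * Nat.card ↥(sqSub H ⊓ M)) :=
            Nat.mul_le_mul_left _ (Nat.mul_le_mul_left _ hc2)
        _ = 32 * (Nat.card Φ * Nat.card ↥(sqSub H ⊓ M)) := by ring
        _ ≤ 2 * Nat.card R * (4 * Nat.card (sqSub (H ⊓ M))) := key
        _ = _ := by ring
    have hD : ∀ X ∈ R, X + tw X ∈ Φ := by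
      rintro _ ⟨x, hxH, hx, rfl⟩
      refine ⟨x * (t * x⁻¹ * t⁻¹), ?_, hx.mul_left (hC.fix_conj hx.inv_left t), ?_⟩
      · have := commutator_mem_of_sq_mem (fun z hz => mul_self_mem_sqSub hz) hxH htH
        simpa [mul_assoc] using this
      · rw [hC.nu_mul hx (hC.fix_conj hx.inv_left t), hC.nu_conj_of_not_fix htF' hx.inv_left,
          hC.nu_inv hx]
    have hfixed : ∀ X : Mt, X + tw X = 0 → X = 0 ∨ X = mI ∨ X = mE ∨ X = mI + mE := by decide
    -- both fixed matrices lie in `R`, and the squares in `C(A)` are as small as possible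
    have hboth : (mI ∈ R ∧ mE ∈ R) ∧ Nat.card R ≤ 4 * Nat.card Φ := by
      by_cases hR4 : Nat.card R = 8
      · have hidx : R.index = 2 := by
          have := R.card_mul_index
          rw [h16, hR4] at this
          omega
        have hΦ2 : Nat.card Φ ≤ 2 := by omega
        have hall : ∀ k : Mt, tw k = k → k ∈ R := by
          intro k hk
          by_contra hkR
          have hDall : ∀ X : Mt, X + tw X ∈ Φ := by
            intro X
            by_cases hX : X ∈ R
            · exact hD X hX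
            · have h := hD _ ((AddSubgroup.add_mem_iff_of_index_two hidx).mpr (iff_of_false hX hkR))
              have e : ∀ X k : Mt, tw k = k → X + k + tw (X + k) = X + tw X := by decide
              rwa [e X k hk] at h
          have h3 : Nat.card (Fin 3) ≤ Nat.card Φ := by
            refine Nat.card_le_card_of_injective (fun i : Fin 3 =>
              (⟨(![0, mU, mF] i) + tw (![0, mU, mF] i), hDall _⟩ : Φ)) ?_
            intro i j hij
            have := congrArg Subtype.val hij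
            simp only at this
            clear hij
            revert this
            revert i j
            decide
          rw [Nat.card_fin] at h3
          omega
        refine ⟨⟨hall _ (by decide), hall _ (by decide)⟩, ?_⟩
        have hΦ1 : Nat.card Φ ≠ 1 := by
          intro h1
          have hbot := AddSubgroup.card_eq_one.mp h1
          have hle : Nat.card R ≤ Nat.card (Fin 4) := by
            refine Nat.card_le_card_of_surjective (fun i : Fin 4 =>
              (⟨![0, mI, mE, mI + mE] i, by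
                fin_cases i
                · exact zero_mem R
                · exact hall _ (by decide)
                · exact hall _ (by decide)
                · exact hall _ (by decide)⟩ : R)) fun X => ?_
            have := hD X X.2
            rw [hbot, AddSubgroup.mem_bot] at this
            rcases hfixed _ this with h | h | h | h
            · exact ⟨0, Subtype.ext h.symm⟩
            · exact ⟨1, Subtype.ext h.symm⟩
            · exact ⟨2, Subtype.ext h.symm⟩
            · exact ⟨3, Subtype.ext h.symm⟩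
          rw [Nat.card_fin, hR4] at hle
          omega
        omega
      · have hR4' : Nat.card R = 4 ∧ Nat.card Φ = 1 := by
          generalize Nat.card R = x at *
          generalize Nat.card Φ = y at *
          interval_cases x <;> omega
        have hbot := AddSubgroup.card_eq_one.mp hR4'.2
        refine ⟨?_, by omega⟩
        classical
        by_contra hnot
        have hmiss : ∃ k, (k = mI ∨ k = mE) ∧ k ∉ R := by
          by_cases h : mI ∈ R
          · exact ⟨_, Or.inr rfl, fun h' => hnot ⟨h, h'⟩⟩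
          · exact ⟨_, Or.inl rfl, h⟩
        obtain ⟨k, hk, hkR⟩ := hmiss
        have hle : Nat.card R ≤ Nat.card {X : Mt // X ∈ [0, mI, mE, mI + mE] ∧ X ≠ k} := by
          refine Nat.card_le_card_of_injective (fun X => ⟨(X : Mt), ?_, fun h => hkR (h ▸ X.2)⟩)
            fun X Y h => Subtype.ext (congrArg Subtype.val h :)
          have := hD X X.2
          rw [hbot, AddSubgroup.mem_bot] at this
          rcases hfixed _ this with h | h | h | h <;> simp [h]
        rw [hR4'.1, Nat.card_eq_fintype_card] at hle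
        revert hle
        rcases hk with rfl | rfl <;> decide
    obtain ⟨⟨hI, hE⟩, hR'⟩ := hboth
    have heq := heq_of (Nat.card R) (Nat.card Φ) rfl rfl
      (key.trans (Nat.mul_le_mul_right _ (by omega)))
    obtain ⟨k, -, hk, hkI⟩ := hI
    exact hfinish heq hk (by rw [hkI]; unfold NoKer; decide) _ hE (by decide)
      (by unfold NoFix; decide) fun g _ => by decide

end Coord

/-- Every subgroup is at most sixteen times as large as the subgroup of its squares. -/
theorem card_le_sixteen_mul_sqSub (hP : IsPGroup 2 P)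
    (h : ∀ E : Subgroup P, E.Normal → IsMulCommutative E → (∀ e ∈ E, e ^ 2 = 1) → Nat.card E ≤ 4)
    (H : Subgroup P) : Nat.card H ≤ 16 * Nat.card (sqSub H) := by
  obtain ⟨A, hA⟩ := exists_frame hP h
  have hle := hA.card_le_sixteen
  haveI := Fact.mk Nat.prime_two
  obtain ⟨n, hn⟩ := (hP.to_subgroup A).exists_card_eq
  by_cases h4 : Nat.card A ≤ 4
  · exact hA.card_le_of_card_four h4 H
  by_cases h8 : Nat.card A = 8
  · exact hA.card_le_of_card_eight h8 H
  have h16 : Nat.card A = 16 := by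
    have : n ≤ 4 := by
      by_contra hn'
      have := Nat.pow_le_pow_right (show 2 > 0 by norm_num) (show 5 ≤ n by omega)
      omega
    interval_cases n <;> omega
  obtain ⟨a₁, a₂, hC⟩ := exists_coord hA h16
  exact hC.card_le H

end CfsgLib.MacWilliams
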