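import Cfsg.Agent.Lib.MacWilliams.Frame
import Cfsg.Agent.Lib.PGroup.Basic

/-!
The action on a normal homocyclic subgroup `Z/4 × Z/4`: coordinates modulo two.
-/

set_option autoImplicit false
set_option linter.style.haveILetI false
set_option linter.unusedSectionVars false

open scoped commutatorElement

namespace CfsgLib.MacWilliams

universe u

/-- Vectors over the field of two elements. -/
abbrev Vec : Type := ZMod 2 × ZMod 2

/-- Two-by-two matrices over the field of two elements, by columns. -/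
abbrev Mt : Type := Vec × Vec

/-- A matrix applied to a vector. -/
def app (N : Mt) (v : Vec) : Vec := (v.1 * N.1.1 + v.2 * N.2.1, v.1 * N.1.2 + v.2 * N.2.2)

/-- The transvection fixing the first basis vector. -/
def sh (v : Vec) : Vec := (v.1 + v.2, v.2)

/-- Conjugation of a matrix by the transvection. -/
def tw (N : Mt) : Mt :=
  ((N.1.1 + N.1.2, N.1.2), (N.1.1 + N.1.2 + N.2.1 + N.2.2, N.1.2 + N.2.2))

theorem sh_app_sh : ∀ (N : Mt) (v : Vec), sh (app N (sh v)) = app (tw N) v := by decide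
theorem app_add_left : ∀ (N N' : Mt) (v : Vec), app (N + N') v = app N v + app N' v := by decide
theorem app_add_right : ∀ (N : Mt) (v w : Vec), app N (v + w) = app N v + app N w := by decide
theorem app_e1 : ∀ N : Mt, app N (1, 0) = N.1 := by decide
theorem app_e2 : ∀ N : Mt, app N (0, 1) = N.2 := by decide
theorem vec_add_self : ∀ v : Vec, v + v = 0 := by decide
theorem mt_add_self : ∀ N : Mt, N + N = 0 := by decide

variable {P : Type u} [Group P]

/-- The square of the element with the given coordinates. -/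
def sigma (a₁ a₂ : P) (v : Vec) : P := (a₁ * a₁) ^ v.1.val * (a₂ * a₂) ^ v.2.val

/-- The coordinates of the class of `a` modulo the involutions. -/
noncomputable def cl (a₁ a₂ a : P) : Vec := Function.invFun (sigma a₁ a₂) (a * a)

/-- The matrix of an element fixing the involutions. -/
noncomputable def nu (a₁ a₂ g : P) : Mt :=
  (Function.invFun (sigma a₁ a₂) (a₁⁻¹ * (g * a₁ * g⁻¹)),
    Function.invFun (sigma a₁ a₂) (a₂⁻¹ * (g * a₂ * g⁻¹)))

/-- A basis of a homocyclic `A` whose first involution is central in `P`. -/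
structure Coord (A : Subgroup P) (a₁ a₂ : P) : Prop where
  frame : Frame A
  mem1 : a₁ ∈ A
  mem2 : a₂ ∈ A
  ne1 : a₁ * a₁ ≠ 1
  ne2 : a₂ * a₂ ≠ 1
  ne12 : a₁ * a₁ ≠ a₂ * a₂
  fix1 : ∀ g : P, g * (a₁ * a₁) * g⁻¹ = a₁ * a₁
  cardB : Nat.card (omegaOf A) = 4

theorem exists_coord [Finite P] {A : Subgroup P} (hA : Frame A) (h16 : Nat.card A = 16) :
    ∃ a₁ a₂, Coord A a₁ a₂ := by
  haveI := Fact.mk Nat.prime_two
  obtain ⟨f, hf, hcf⟩ := hA.exists_sq_hom
  have hB4 := hA.card_omegaOf_le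
  have hrB : Nat.card f.range ≤ Nat.card (omegaOf A) := Subgroup.card_le_card_group _
  rw [h16] at hcf
  have hB : Nat.card (omegaOf A) = 4 ∧ Nat.card f.range = 4 := by
    generalize Nat.card (omegaOf A) = x at *
    generalize Nat.card f.range = y at *
    interval_cases x <;> omega
  have hsurj : Function.Surjective f :=
    MonoidHom.range_eq_top.mp (Subgroup.eq_top_of_card_eq _ (hB.2.trans hB.1.symm))
  haveI := hA.omegaOf_normal
  obtain ⟨u, hu, huc, huo⟩ := CfsgLib.PGroup.exists_central_orderOf_eq hA.isPGroup (omegaOf A)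
    fun h => by
      have := hB.1
      rw [h, Subgroup.card_bot] at this
      omega
  obtain ⟨v, hv, hvu⟩ : ∃ v ∈ omegaOf A, v ∉ Subgroup.zpowers u := by
    by_contra hcon
    push Not at hcon
    have h := Subgroup.card_le_of_le (show omegaOf A ≤ Subgroup.zpowers u from hcon)
    rw [hB.1, Nat.card_zpowers, huo] at h
    omega
  obtain ⟨⟨a₁, ha₁⟩, h1⟩ := hsurj ⟨u, hu⟩
  obtain ⟨⟨a₂, ha₂⟩, h2⟩ := hsurj ⟨v, hv⟩
  have e1 : a₁ * a₁ = u := (hf ⟨a₁, ha₁⟩).symm.trans (congrArg Subtype.val h1)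
  have e2 : a₂ * a₂ = v := (hf ⟨a₂, ha₂⟩).symm.trans (congrArg Subtype.val h2)
  refine ⟨a₁, a₂, hA, ha₁, ha₂, ?_, ?_, ?_, fun g => ?_, hB.1⟩
  · rw [e1]; intro h; simp [h] at huo
  · rw [e2]; exact fun h => hvu (h ▸ one_mem _)
  · rw [e1, e2]; exact fun h => hvu (h ▸ Subgroup.mem_zpowers u)
  · rw [e1, Subgroup.mem_center_iff.mp huc g, mul_inv_cancel_right]

namespace Coord

variable [Finite P] {A : Subgroup P} {a₁ a₂ : P} (hC : Coord A a₁ a₂)
include hC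

theorem sigma_mem (v : Vec) : sigma a₁ a₂ v ∈ omegaOf A :=
  mul_mem (pow_mem (hC.frame.sq_mem_omegaOf hC.mem1) _) (pow_mem (hC.frame.sq_mem_omegaOf hC.mem2) _)

theorem sigma_zero : sigma a₁ a₂ 0 = 1 := by simp [sigma]

theorem sigma_add (v w : Vec) : sigma a₁ a₂ (v + w) = sigma a₁ a₂ v * sigma a₁ a₂ w := by
  have hp : ∀ u ∈ omegaOf A, ∀ x y : ZMod 2, u ^ (x + y).val = u ^ x.val * u ^ y.val := by
    intro u hu x y
    have h01 : ∀ z : ZMod 2, z = 0 ∨ z = 1 := by decide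
    rcases h01 x with rfl | rfl <;> rcases h01 y with rfl | rfl
    · simp
    · simp [ZMod.val_one]
    · simp [ZMod.val_one]
    · rw [show (1 + 1 : ZMod 2) = 0 from rfl, ZMod.val_zero, pow_zero, ZMod.val_one, pow_one, hu.2]
  simp only [sigma, Prod.fst_add, Prod.snd_add]
  rw [hp _ (hC.frame.sq_mem_omegaOf hC.mem1), hp _ (hC.frame.sq_mem_omegaOf hC.mem2)]
  exact ((hC.frame.commute (mul_mem hC.mem1 hC.mem1) (mul_mem hC.mem2 hC.mem2)).pow_pow _ _)
    |>.mul_mul_mul_comm _ _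

theorem sigma_eq_one {v : Vec} (h : sigma a₁ a₂ v = 1) : v = 0 := by
  have h01 : ∀ z : ZMod 2, z = 0 ∨ z = 1 := by decide
  obtain ⟨x, y⟩ := v
  rcases h01 x with rfl | rfl <;> rcases h01 y with rfl | rfl <;>
    simp [sigma, ZMod.val_one] at h
  · rfl
  · exact absurd h hC.ne2
  · exact absurd h hC.ne1
  · exact absurd ((mul_eq_one_iff_eq_inv.mp h).trans
      (inv_eq_of_mul_eq_one_left (hC.frame.sq_mem_omegaOf hC.mem2).2)) hC.ne12

theorem sigma_injective : Function.Injective (sigma a₁ a₂) := by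
  intro v w h
  have h1 : sigma a₁ a₂ (v + w) = 1 := by
    rw [hC.sigma_add, h]; exact (hC.sigma_mem w).2
  have h2 := hC.sigma_eq_one h1
  calc v = (v + w) + w := by rw [add_assoc, vec_add_self, add_zero]
    _ = w := by rw [h2, zero_add]

theorem sigma_surjOn {b : P} (hb : b ∈ omegaOf A) : ∃ v, sigma a₁ a₂ v = b := by
  have hbij : Function.Bijective fun v : Vec => (⟨sigma a₁ a₂ v, hC.sigma_mem v⟩ : omegaOf A) :=
    (Nat.bijective_iff_injective_and_card _).mpr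
      ⟨fun v w h => hC.sigma_injective (congrArg Subtype.val h), by
        rw [hC.cardB]; simp⟩
  obtain ⟨v, hv⟩ := hbij.2 ⟨b, hb⟩
  exact ⟨v, congrArg Subtype.val hv⟩

theorem sigma_cl {a : P} (ha : a ∈ A) : sigma a₁ a₂ (cl a₁ a₂ a) = a * a :=
  Function.invFun_eq (hC.sigma_surjOn (hC.frame.sq_mem_omegaOf ha))

theorem cl_eq_of {a : P} {v : Vec} (h : sigma a₁ a₂ v = a * a) : cl a₁ a₂ a = v :=
  hC.sigma_injective ((Function.invFun_eq ⟨v, h⟩).trans h.symm)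

theorem cl_mul {a b : P} (ha : a ∈ A) (hb : b ∈ A) :
    cl a₁ a₂ (a * b) = cl a₁ a₂ a + cl a₁ a₂ b := by
  refine hC.cl_eq_of ?_
  rw [hC.sigma_add, hC.sigma_cl ha, hC.sigma_cl hb]
  exact (hC.frame.commute ha hb).mul_mul_mul_comm _ _

theorem cl_eq_zero_iff {a : P} (ha : a ∈ A) : cl a₁ a₂ a = 0 ↔ a ∈ omegaOf A := by
  constructor
  · intro h
    have := hC.sigma_cl ha
    rw [h, hC.sigma_zero] at this
    exact hC.frame.mem_omegaOf.mpr ⟨ha, this.symm⟩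
  · intro h
    exact hC.cl_eq_of (by rw [hC.sigma_zero, h.2])

theorem cl_one_left : cl a₁ a₂ a₁ = (1, 0) := hC.cl_eq_of (by simp [sigma, ZMod.val_one])

theorem cl_one_right : cl a₁ a₂ a₂ = (0, 1) := hC.cl_eq_of (by simp [sigma, ZMod.val_one])

theorem exists_rep (v : Vec) : ∃ r ∈ A, cl a₁ a₂ r = v := by
  obtain ⟨x, y⟩ := v
  have h01 : ∀ z : ZMod 2, z = 0 ∨ z = 1 := by decide
  rcases h01 x with rfl | rfl <;> rcases h01 y with rfl | rfl
  · exact ⟨1, one_mem A, hC.cl_eq_of (by simp [sigma])⟩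
  · exact ⟨a₂, hC.mem2, hC.cl_one_right⟩
  · exact ⟨a₁, hC.mem1, hC.cl_one_left⟩
  · exact ⟨a₁ * a₂, mul_mem hC.mem1 hC.mem2, by
      rw [hC.cl_mul hC.mem1 hC.mem2, hC.cl_one_left, hC.cl_one_right]; rfl⟩

theorem cl_sigma (v : Vec) : cl a₁ a₂ (sigma a₁ a₂ v) = 0 :=
  (hC.cl_eq_zero_iff (hC.frame.omegaOf_le (hC.sigma_mem v))).mpr (hC.sigma_mem v)

/-! ### The two kinds of elements of `P` -/

theorem conj_sigma_of_fix {g : P} (hg : Commute g (a₂ * a₂)) (v : Vec) :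
    g * sigma a₁ a₂ v * g⁻¹ = sigma a₁ a₂ v := by
  have h1 : Commute g (a₁ * a₁) := mul_inv_eq_iff_eq_mul.mp (hC.fix1 g)
  have h : Commute g (sigma a₁ a₂ v) := (h1.pow_right _).mul_right (hg.pow_right _)
  rw [h.eq, mul_inv_cancel_right]

theorem conj_sq_two {g : P} (hg : ¬ Commute g (a₂ * a₂)) :
    g * (a₂ * a₂) * g⁻¹ = sigma a₁ a₂ (1, 1) := by
  obtain ⟨⟨x, y⟩, hv⟩ := hC.sigma_surjOn
    (hC.frame.conj_mem_omegaOf (hC.frame.sq_mem_omegaOf hC.mem2) g)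
  rw [← hv]
  have h01 : ∀ z : ZMod 2, z = 0 ∨ z = 1 := by decide
  rcases h01 x with rfl | rfl <;> rcases h01 y with rfl | rfl
  · exact absurd (conj_eq_one_iff.mp (hv.symm.trans hC.sigma_zero)) hC.ne2
  · refine absurd (mul_inv_eq_iff_eq_mul.mp ?_) hg
    rw [← hv]; simp [sigma, ZMod.val_one]
  · refine absurd ?_ hC.ne12
    have h2 : g * (a₂ * a₂) * g⁻¹ = g * (a₁ * a₁) * g⁻¹ := by
      rw [hC.fix1, ← hv]; simp [sigma, ZMod.val_one]
    exact (mul_left_cancel (mul_right_cancel h2)).symm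
  · rfl

theorem conj_sigma_of_not_fix {g : P} (hg : ¬ Commute g (a₂ * a₂)) (v : Vec) :
    g * sigma a₁ a₂ v * g⁻¹ = sigma a₁ a₂ (sh v) := by
  have h1 : g * (a₁ * a₁) * g⁻¹ = sigma a₁ a₂ (1, 0) := by
    rw [hC.fix1]; simp [sigma, ZMod.val_one]
  have h2 := hC.conj_sq_two hg
  have h01 : ∀ z : ZMod 2, z = 0 ∨ z = 1 := by decide
  obtain ⟨x, y⟩ := v
  rcases h01 x with rfl | rfl <;> rcases h01 y with rfl | rfl
  · simp [sigma, sh]
  · rw [show sigma a₁ a₂ ((0, 1) : Vec) = a₂ * a₂ by simp [sigma, ZMod.val_one]]; exact h2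
  · rw [show sigma a₁ a₂ ((1, 0) : Vec) = a₁ * a₁ by simp [sigma, ZMod.val_one]]; exact h1
  · rw [show sigma a₁ a₂ ((1, 1) : Vec) = a₁ * a₁ * (a₂ * a₂) by simp [sigma, ZMod.val_one],
      show g * (a₁ * a₁ * (a₂ * a₂)) * g⁻¹ = (g * (a₁ * a₁) * g⁻¹) * (g * (a₂ * a₂) * g⁻¹) by group,
      h1, h2, ← hC.sigma_add]
    rfl

theorem inv_mul_mem_fix {g h : P} (hg : ¬ Commute g (a₂ * a₂)) (hh : ¬ Commute h (a₂ * a₂)) :
    Commute (g⁻¹ * h) (a₂ * a₂) := by
  have e : g * (a₂ * a₂) * g⁻¹ = h * (a₂ * a₂) * h⁻¹ :=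
    (hC.conj_sq_two hg).trans (hC.conj_sq_two hh).symm
  show g⁻¹ * h * (a₂ * a₂) = a₂ * a₂ * (g⁻¹ * h)
  calc g⁻¹ * h * (a₂ * a₂) = g⁻¹ * (h * (a₂ * a₂) * h⁻¹) * h := by group
    _ = g⁻¹ * (g * (a₂ * a₂) * g⁻¹) * h := by rw [e]
    _ = a₂ * a₂ * (g⁻¹ * h) := by group

theorem sq_mem_fix (g : P) : Commute (g * g) (a₂ * a₂) := by
  by_cases hg : Commute g (a₂ * a₂)
  · exact hg.mul_left hg
  · have hgi : ¬ Commute g⁻¹ (a₂ * a₂) := fun h => hg (by simpa using h.inv_left)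
    have := hC.inv_mul_mem_fix hgi hg
    rwa [inv_inv] at this

theorem centralizer_le_fix {μ : P} (hμ : μ ∈ Subgroup.centralizer (A : Set P)) :
    Commute μ (a₂ * a₂) :=
  (hC.frame.commute_centralizer (mul_mem hC.mem2 hC.mem2) hμ).symm

/-! ### The matrix of an element fixing the involutions -/

theorem nu_spec {g : P} (hg : Commute g (a₂ * a₂)) {a : P} (ha : a ∈ A) :
    g * a * g⁻¹ = a * sigma a₁ a₂ (app (nu a₁ a₂ g) (cl a₁ a₂ a)) := by
  have hB : ∀ c ∈ A, c⁻¹ * (g * c * g⁻¹) ∈ omegaOf A := fun c hc => by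
    have hgc : g * (c * c) * g⁻¹ = c * c := by
      rw [← hC.sigma_cl hc]; exact hC.conj_sigma_of_fix hg _
    refine hC.frame.mem_omegaOf.mpr ⟨mul_mem (inv_mem hc) (hC.frame.conj_mem hc g), ?_⟩
    rw [(hC.frame.commute (hC.frame.conj_mem hc g) (inv_mem hc)).mul_mul_mul_comm,
      show g * c * g⁻¹ * (g * c * g⁻¹) = g * (c * c) * g⁻¹ by group, hgc]
    group
  have h1 : g * a₁ * g⁻¹ = a₁ * sigma a₁ a₂ (nu a₁ a₂ g).1 := by
    rw [nu, Function.invFun_eq (hC.sigma_surjOn (hB a₁ hC.mem1)), mul_inv_cancel_left]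
  have h2 : g * a₂ * g⁻¹ = a₂ * sigma a₁ a₂ (nu a₁ a₂ g).2 := by
    rw [nu, Function.invFun_eq (hC.sigma_surjOn (hB a₂ hC.mem2)), mul_inv_cancel_left]
  set N := nu a₁ a₂ g with hN
  -- it suffices to treat one representative of each class
  suffices hrep : ∀ v, ∃ r ∈ A, cl a₁ a₂ r = v ∧ g * r * g⁻¹ = r * sigma a₁ a₂ (app N v) by
    obtain ⟨r, hr, hrv, hgr⟩ := hrep (cl a₁ a₂ a)
    set b := r⁻¹ * a with hb'
    have hb : b ∈ omegaOf A := by
      refine hC.frame.mem_omegaOf.mpr ⟨mul_mem (inv_mem hr) ha, ?_⟩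
      rw [hb', (hC.frame.commute ha (inv_mem hr)).mul_mul_mul_comm, ← hC.sigma_cl ha, ← hrv,
        hC.sigma_cl hr]
      group
    obtain ⟨w, hw⟩ := hC.sigma_surjOn hb
    have hgb : g * b * g⁻¹ = b := by rw [← hw]; exact hC.conj_sigma_of_fix hg w
    calc g * a * g⁻¹ = (g * r * g⁻¹) * (g * b * g⁻¹) := by rw [hb']; group
      _ = r * (sigma a₁ a₂ (app N (cl a₁ a₂ a)) * b) := by rw [hgr, hgb, mul_assoc]
      _ = r * (b * sigma a₁ a₂ (app N (cl a₁ a₂ a))) := by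
          rw [(hC.frame.commute (hC.frame.omegaOf_le hb)
            (hC.frame.omegaOf_le (hC.sigma_mem _))).eq]
      _ = a * sigma a₁ a₂ (app N (cl a₁ a₂ a)) := by rw [hb']; group
  intro v
  obtain ⟨x, y⟩ := v
  have h01 : ∀ z : ZMod 2, z = 0 ∨ z = 1 := by decide
  rcases h01 x with rfl | rfl <;> rcases h01 y with rfl | rfl
  · exact ⟨1, one_mem A, hC.cl_eq_of (by simp [sigma]), by simp [sigma, app]⟩
  · exact ⟨a₂, hC.mem2, hC.cl_one_right, by rw [app_e2]; exact h2⟩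
  · exact ⟨a₁, hC.mem1, hC.cl_one_left, by rw [app_e1]; exact h1⟩
  · refine ⟨a₁ * a₂, mul_mem hC.mem1 hC.mem2,
      by rw [hC.cl_mul hC.mem1 hC.mem2, hC.cl_one_left, hC.cl_one_right]; rfl, ?_⟩
    rw [show ((1, 1) : Vec) = (1, 0) + (0, 1) from rfl, app_add_right, app_e1, app_e2,
      hC.sigma_add, show g * (a₁ * a₂) * g⁻¹ = (g * a₁ * g⁻¹) * (g * a₂ * g⁻¹) by group, h1, h2]
    exact (hC.frame.commute (hC.frame.omegaOf_le (hC.sigma_mem _)) hC.mem2).mul_mul_mul_comm _ _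

theorem nu_eq_of {g : P} (hg : Commute g (a₂ * a₂)) {N : Mt}
    (h : ∀ a ∈ A, g * a * g⁻¹ = a * sigma a₁ a₂ (app N (cl a₁ a₂ a))) : nu a₁ a₂ g = N := by
  have h1 := hC.sigma_injective (mul_left_cancel ((hC.nu_spec hg hC.mem1).symm.trans (h _ hC.mem1)))
  have h2 := hC.sigma_injective (mul_left_cancel ((hC.nu_spec hg hC.mem2).symm.trans (h _ hC.mem2)))
  rw [hC.cl_one_left, app_e1, app_e1] at h1
  rw [hC.cl_one_right, app_e2, app_e2] at h2
  exact Prod.ext h1 h2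

theorem nu_mul {g h : P} (hg : Commute g (a₂ * a₂)) (hh : Commute h (a₂ * a₂)) :
    nu a₁ a₂ (g * h) = nu a₁ a₂ g + nu a₁ a₂ h := by
  refine hC.nu_eq_of (hg.mul_left hh) fun a ha => ?_
  rw [show g * h * a * (g * h)⁻¹ = g * (h * a * h⁻¹) * g⁻¹ by group, hC.nu_spec hh ha,
    show ∀ w : P, g * (a * w) * g⁻¹ = (g * a * g⁻¹) * (g * w * g⁻¹) from fun w => by group,
    hC.nu_spec hg ha, hC.conj_sigma_of_fix hg, app_add_left, hC.sigma_add, mul_assoc]

theorem nu_eq_zero_iff {g : P} (hg : Commute g (a₂ * a₂)) :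
    nu a₁ a₂ g = 0 ↔ g ∈ Subgroup.centralizer (A : Set P) := by
  constructor
  · intro h a ha
    have := hC.nu_spec hg ha
    rw [h, show app (0 : Mt) (cl a₁ a₂ a) = 0 by simp [app], hC.sigma_zero, mul_one] at this
    exact (mul_inv_eq_iff_eq_mul.mp this).symm
  · intro h
    refine hC.nu_eq_of hg fun a ha => ?_
    rw [show app (0 : Mt) (cl a₁ a₂ a) = 0 by simp [app], hC.sigma_zero, mul_one,
      ← h a ha, mul_inv_cancel_right]

theorem nu_inv {g : P} (hg : Commute g (a₂ * a₂)) : nu a₁ a₂ g⁻¹ = nu a₁ a₂ g := by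
  have h := hC.nu_mul hg.inv_left hg
  rw [inv_mul_cancel, (hC.nu_eq_zero_iff (Commute.one_left _)).mpr (one_mem _)] at h
  calc nu a₁ a₂ g⁻¹ = (nu a₁ a₂ g⁻¹ + nu a₁ a₂ g) + nu a₁ a₂ g := by
        rw [add_assoc, mt_add_self, add_zero]
    _ = nu a₁ a₂ g := by rw [← h, zero_add]

theorem fix_conj {h : P} (hh : Commute h (a₂ * a₂)) (g : P) : Commute (g * h * g⁻¹) (a₂ * a₂) := by
  obtain ⟨v, hv⟩ := hC.sigma_surjOn
    (hC.frame.conj_mem_omegaOf (hC.frame.sq_mem_omegaOf hC.mem2) g⁻¹)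
  have h1 : h * sigma a₁ a₂ v = sigma a₁ a₂ v * h := mul_inv_eq_iff_eq_mul.mp (hC.conj_sigma_of_fix hh v)
  have h2 : a₂ * a₂ = g * sigma a₁ a₂ v * g⁻¹ := by rw [hv]; group
  show g * h * g⁻¹ * (a₂ * a₂) = a₂ * a₂ * (g * h * g⁻¹)
  calc g * h * g⁻¹ * (a₂ * a₂) = g * (h * sigma a₁ a₂ v) * g⁻¹ := by rw [h2]; group
    _ = g * (sigma a₁ a₂ v * h) * g⁻¹ := by rw [h1]
    _ = a₂ * a₂ * (g * h * g⁻¹) := by rw [h2]; group

theorem nu_conj_of_fix {g h : P} (hg : Commute g (a₂ * a₂)) (hh : Commute h (a₂ * a₂)) :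
    nu a₁ a₂ (g * h * g⁻¹) = nu a₁ a₂ h := by
  rw [hC.nu_mul (hg.mul_left hh) hg.inv_left, hC.nu_mul hg hh, hC.nu_inv hg, add_comm (nu a₁ a₂ g),
    add_assoc, mt_add_self, add_zero]

theorem nu_conj_of_not_fix {g h : P} (hg : ¬ Commute g (a₂ * a₂)) (hh : Commute h (a₂ * a₂)) :
    nu a₁ a₂ (g * h * g⁻¹) = tw (nu a₁ a₂ h) := by
  refine hC.nu_eq_of (hC.fix_conj hh g) fun a ha => ?_
  set a' := g⁻¹ * a * g with ha'
  have ha'A : a' ∈ A := by simpa [ha'] using hC.frame.conj_mem ha g⁻¹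
  have haa' : a = g * a' * g⁻¹ := by rw [ha']; group
  have hsh : ∀ v : Vec, sh (sh v) = v := by decide
  have hcl : cl a₁ a₂ a' = sh (cl a₁ a₂ a) := by
    have h1 : cl a₁ a₂ a = sh (cl a₁ a₂ a') := by
      refine hC.cl_eq_of ?_
      rw [← hC.conj_sigma_of_not_fix hg, hC.sigma_cl ha'A, haa']
      group
    rw [h1, hsh]
  calc g * h * g⁻¹ * a * (g * h * g⁻¹)⁻¹ = g * (h * a' * h⁻¹) * g⁻¹ := by rw [ha']; group
    _ = (g * a' * g⁻¹) * (g * sigma a₁ a₂ (app (nu a₁ a₂ h) (cl a₁ a₂ a')) * g⁻¹) := by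
        rw [hC.nu_spec hh ha'A]; group
    _ = a * sigma a₁ a₂ (app (tw (nu a₁ a₂ h)) (cl a₁ a₂ a)) := by
        rw [← haa', hC.conj_sigma_of_not_fix hg, hcl, sh_app_sh]

/-- The matrices of the elements of `X` fixing the involutions. -/
def image (X : Subgroup P) : AddSubgroup Mt where
  carrier := {N | ∃ h ∈ X, Commute h (a₂ * a₂) ∧ nu a₁ a₂ h = N}
  zero_mem' := ⟨1, one_mem X, Commute.one_left _,
    (hC.nu_eq_zero_iff (Commute.one_left _)).mpr (one_mem _)⟩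
  add_mem' := by
    rintro _ _ ⟨g, hg, hg2, rfl⟩ ⟨h, hh, hh2, rfl⟩
    exact ⟨g * h, mul_mem hg hh, hg2.mul_left hh2, hC.nu_mul hg2 hh2⟩
  neg_mem' := by
    rintro _ ⟨g, hg, hg2, rfl⟩
    exact ⟨g, hg, hg2, (neg_eq_of_add_eq_zero_left (mt_add_self _)).symm⟩

theorem mem_image {X : Subgroup P} {N : Mt} :
    N ∈ hC.image X ↔ ∃ h ∈ X, Commute h (a₂ * a₂) ∧ nu a₁ a₂ h = N := Iff.rfl

theorem image_mono {X Y : Subgroup P} (h : X ≤ Y) : hC.image X ≤ hC.image Y :=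
  fun _ ⟨g, hg, hg2, e⟩ => ⟨g, h hg, hg2, e⟩

/-- Lagrange for the matrix map. -/
theorem card_inf_fix (X : Subgroup P) :
    Nat.card ↥(X ⊓ Subgroup.centralizer ({a₂ * a₂} : Set P)) =
      Nat.card (hC.image X) * Nat.card ↥(X ⊓ Subgroup.centralizer (A : Set P)) := by
  set Y := X ⊓ Subgroup.centralizer ({a₂ * a₂} : Set P) with hY
  have hfix : ∀ y : Y, Commute (y : P) (a₂ * a₂) :=
    fun y => Subgroup.mem_centralizer_singleton_iff.mp y.2.2
  let f : Y →* Multiplicative Mt :=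
    { toFun := fun y => Multiplicative.ofAdd (nu a₁ a₂ (y : P))
      map_one' := by
        simp [(hC.nu_eq_zero_iff (Commute.one_left _)).mpr (one_mem _)]
      map_mul' := fun y z => by
        rw [← ofAdd_add, ← hC.nu_mul (hfix y) (hfix z)]; rfl }
  rw [← f.ker.card_mul_index, Subgroup.index_ker, mul_comm]
  congr 1
  · refine Nat.card_congr
      { toFun := fun N => ⟨Multiplicative.toAdd (N : Multiplicative Mt), by
          obtain ⟨y, hy⟩ := N.2
          exact ⟨y, y.2.1, hfix y, by rw [← hy]; rfl⟩⟩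
        invFun := fun N => ⟨Multiplicative.ofAdd (N : Mt), by
          obtain ⟨y, hy, hy2, e⟩ := N.2
          exact ⟨⟨y, hy, Subgroup.mem_centralizer_singleton_iff.mpr hy2⟩, by rw [← e]; rfl⟩⟩
        left_inv := fun N => rfl
        right_inv := fun N => rfl }
  · refine Nat.card_congr
      { toFun := fun y => ⟨((y : Y) : P), (y : Y).2.1,
          (hC.nu_eq_zero_iff (hfix y)).mp (congrArg Multiplicative.toAdd y.2)⟩
        invFun := fun x => ⟨⟨x, x.2.1, Subgroup.mem_centralizer_singleton_iff.mpr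
          (hC.centralizer_le_fix x.2.2)⟩, congrArg Multiplicative.ofAdd
            ((hC.nu_eq_zero_iff (hC.centralizer_le_fix x.2.2)).mpr x.2.2)⟩
        left_inv := fun y => rfl
        right_inv := fun x => rfl }

end Coord

end CfsgLib.MacWilliams
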