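import Cfsg.Agent.Lib.MacWilliams.Omega

/-!
A maximal normal abelian subgroup of exponent dividing four in a two-group without normal
elementary abelian subgroups of order eight, and the sectional bound when it has order at most
eight.
-/

set_option autoImplicit false
set_option linter.style.haveILetI false
set_option linter.unusedSectionVars false

open scoped commutatorElement

namespace CfsgLib.MacWilliams

universe u

variable {P : Type u} [Group P]

/-- The standing hypotheses on the pair `(P, A)`. -/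
structure Frame (A : Subgroup P) : Prop where
  isPGroup : IsPGroup 2 P
  normal : A.Normal
  comm : IsMulCommutative A
  exp4 : ∀ a ∈ A, a ^ 4 = 1
  maximal : ∀ B : Subgroup P, B.Normal → IsMulCommutative B → (∀ b ∈ B, b ^ 4 = 1) → A ≤ B → B ≤ A
  small : ∀ E : Subgroup P, E.Normal → IsMulCommutative E → (∀ e ∈ E, e ^ 2 = 1) → Nat.card E ≤ 4

theorem exists_frame [Finite P] (hP : IsPGroup 2 P)
    (h : ∀ E : Subgroup P, E.Normal → IsMulCommutative E → (∀ e ∈ E, e ^ 2 = 1) → Nat.card E ≤ 4) :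
    ∃ A : Subgroup P, Frame A := by
  obtain ⟨A, ⟨hn, hc, h4⟩, hmax⟩ := (Set.toFinite {A : Subgroup P | A.Normal ∧ IsMulCommutative A ∧
    ∀ a ∈ A, a ^ 4 = 1}).exists_maximal ⟨⊥, inferInstance,
      ⟨⟨fun x y => Subsingleton.elim _ _⟩⟩, fun a ha => by simp [Subgroup.mem_bot.mp ha]⟩
  exact ⟨A, hP, hn, hc, h4, fun B hB hBc hB4 hle => hmax ⟨hB, hBc, hB4⟩ hle, h⟩

/-- The elements of `A` of order dividing two. -/
def omegaOf (A : Subgroup P) : Subgroup P where
  carrier := {a | a ∈ A ⊓ Subgroup.centralizer (A : Set P) ∧ a * a = 1}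
  one_mem' := ⟨one_mem _, one_mul 1⟩
  mul_mem' := fun {a b} ha hb => ⟨mul_mem ha.1 hb.1, by
    rw [(show Commute b a from ha.1.2 b hb.1.1).mul_mul_mul_comm, ha.2, hb.2, one_mul]⟩
  inv_mem' := fun {a} ha => ⟨inv_mem ha.1, by rw [← mul_inv_rev, ha.2, inv_one]⟩

namespace Frame

variable {A : Subgroup P} (hA : Frame A)
include hA

theorem commute {a b : P} (ha : a ∈ A) (hb : b ∈ A) : Commute a b :=
  congrArg Subtype.val (hA.comm.is_comm.comm (⟨a, ha⟩ : A) ⟨b, hb⟩)

theorem le_centralizer : A ≤ Subgroup.centralizer (A : Set P) :=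
  fun _ ha _ hb => (hA.commute hb ha).eq

theorem mem_omegaOf {a : P} : a ∈ omegaOf A ↔ a ∈ A ∧ a * a = 1 :=
  ⟨fun h => ⟨h.1.1, h.2⟩, fun h => ⟨⟨h.1, hA.le_centralizer h.1⟩, h.2⟩⟩

theorem conj_mem {a : P} (ha : a ∈ A) (g : P) : g * a * g⁻¹ ∈ A := hA.normal.conj_mem a ha g

theorem sq_mem_omegaOf {a : P} (ha : a ∈ A) : a * a ∈ omegaOf A :=
  hA.mem_omegaOf.mpr ⟨mul_mem ha ha, by
    have := hA.exp4 a ha
    rwa [show (4 : ℕ) = 2 * 2 from rfl, pow_mul, pow_two, pow_two] at this⟩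

theorem omegaOf_le : omegaOf A ≤ A := fun _ ha => ha.1.1

theorem conj_mem_omegaOf {a : P} (ha : a ∈ omegaOf A) (g : P) : g * a * g⁻¹ ∈ omegaOf A :=
  hA.mem_omegaOf.mpr ⟨hA.conj_mem ha.1.1 g, by
    rw [show g * a * g⁻¹ * (g * a * g⁻¹) = g * (a * a) * g⁻¹ by group, ha.2, mul_one, mul_inv_cancel]⟩

theorem omegaOf_normal : (omegaOf A).Normal := ⟨fun _ ha g => hA.conj_mem_omegaOf ha g⟩

theorem card_omegaOf_le : Nat.card (omegaOf A) ≤ 4 :=
  hA.small _ hA.omegaOf_normal ⟨⟨fun x y => Subtype.ext (hA.commute x.2.1.1 y.2.1.1).eq⟩⟩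
    fun e he => by rw [pow_two]; exact he.2

/-- An element of `A` commutes with every element of `C(A)`. -/
theorem commute_centralizer {a μ : P} (ha : a ∈ A) (hμ : μ ∈ Subgroup.centralizer (A : Set P)) :
    Commute a μ := hμ a ha

variable [Finite P]

theorem mem_of_pow_four {x : P} (hx : x ∈ Subgroup.centralizer (A : Set P)) (h4 : x ^ 4 = 1) :
    x ∈ A :=
  haveI := hA.normal
  CfsgLib.MacWilliams.mem_of_pow_four hA.isPGroup hA.comm hA.exp4 hA.maximal hx h4

theorem mem_of_sq_mem_omegaOf {x : P} (hx : x ∈ Subgroup.centralizer (A : Set P))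
    (h : x * x ∈ omegaOf A) : x ∈ A :=
  hA.mem_of_pow_four hx (by rw [show (4 : ℕ) = 2 * 2 from rfl, pow_mul, pow_two, pow_two]; exact h.2)

/-- A subgroup of `C(A)` is at most four times as large as the subgroup of its squares. -/
theorem card_le_of_le_centralizer {H : Subgroup P} (hH : H ≤ Subgroup.centralizer (A : Set P)) :
    Nat.card H ≤ 4 * Nat.card (sqSub H) := by
  have h4 : ∀ x : H, x ^ 4 = 1 → x ∈ Subgroup.center H := fun x hx =>
    Subgroup.mem_center_iff.mpr fun y => Subtype.ext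
      (hA.commute_centralizer (hA.mem_of_pow_four (hH x.2) (by simpa using congrArg Subtype.val hx))
        (hH y.2)).eq.symm
  have h1 := index_sqSub_le (hA.isPGroup.to_subgroup H) h4
  have h2 : Nat.card (omegaOne H) ≤ Nat.card (omegaOf A) := by
    refine Nat.card_le_card_of_injective (fun x => (⟨((x : H) : P), ?_⟩ : omegaOf A)) fun x y hxy =>
      Subtype.ext (Subtype.ext (congrArg Subtype.val hxy :))
    have hx : ((x : H) : P) * (x : H) = 1 := congrArg Subtype.val x.2.1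
    exact hA.mem_omegaOf.mpr ⟨hA.mem_of_sq_mem_omegaOf (hH (x : H).2)
      (by rw [hx]; exact one_mem _), hx⟩
  have h3 : (sqSub (⊤ : Subgroup H)).map H.subtype = sqSub H := by
    rw [map_sqSub, ← MonoidHom.range_eq_map, Subgroup.range_subtype]
  rw [← h3, Subgroup.card_map_of_injective H.subtype_injective,
    ← (sqSub (⊤ : Subgroup H)).card_mul_index, mul_comm]
  exact Nat.mul_le_mul_right _ (h1.trans (h2.trans hA.card_omegaOf_le))

/-- Counting by the action on `A`. -/
theorem card_le_of_action (H : Subgroup P) {T : Type*} [Finite T] (F : H → T)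
    (hF : ∀ x y : H, F x = F y → ∀ a ∈ A, (x : P) * a * (x : P)⁻¹ = y * a * (y : P)⁻¹) :
    ∃ n : ℕ, 2 ^ n ≤ Nat.card T ∧
      Nat.card H = 2 ^ n * Nat.card ↥(H ⊓ Subgroup.centralizer (A : Set P)) ∧
      (2 ^ n = Nat.card T → Function.Surjective F) := by
  haveI := Fact.mk Nat.prime_two
  set M := (Subgroup.centralizer (A : Set P)).subgroupOf H with hM
  obtain ⟨n, hn⟩ := (hA.isPGroup.to_subgroup H).index M
  have hcard : Nat.card (H ⧸ M) = 2 ^ n := by rw [← Subgroup.index_eq_card]; exact hn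
  have hinj : Function.Injective fun q : H ⧸ M => F q.out := by
    intro q r hqr
    rw [← q.out_eq, ← r.out_eq]
    refine QuotientGroup.eq.mpr ?_
    intro a ha
    show a * ((q.out : P)⁻¹ * r.out) = (q.out : P)⁻¹ * r.out * a
    have h := hF _ _ hqr a ha
    calc a * ((q.out : P)⁻¹ * r.out)
        = (q.out : P)⁻¹ * ((q.out : P) * a * (q.out : P)⁻¹) * r.out := by group
      _ = (q.out : P)⁻¹ * ((r.out : P) * a * (r.out : P)⁻¹) * r.out := by rw [h]
      _ = (q.out : P)⁻¹ * r.out * a := by group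
  refine ⟨n, hcard ▸ Nat.card_le_card_of_injective _ hinj, ?_, fun hT t => ?_⟩
  · rw [← hn, ← M.card_mul_index, mul_comm]
    congr 1
    rw [hM, ← Subgroup.inf_subgroupOf_left, Nat.card_congr
      (Subgroup.subgroupOfEquivOfLe inf_le_left).toEquiv]
  · obtain ⟨q, hq⟩ := ((Nat.bijective_iff_injective_and_card _).mpr ⟨hinj, hcard.trans hT⟩).2 t
    exact ⟨_, hq⟩

theorem card_le_centralizer_part (H : Subgroup P) :
    Nat.card ↥(H ⊓ Subgroup.centralizer (A : Set P)) ≤
      4 * Nat.card (sqSub (H ⊓ Subgroup.centralizer (A : Set P))) ∧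
    Nat.card (sqSub (H ⊓ Subgroup.centralizer (A : Set P))) ≤
      Nat.card ↥(sqSub H ⊓ Subgroup.centralizer (A : Set P)) :=
  ⟨hA.card_le_of_le_centralizer inf_le_right, Subgroup.card_le_of_le
    (le_inf (sqSub_mono inf_le_left) ((sqSub_le _).trans inf_le_right))⟩

/-- The bound when `|A| ≤ 4`. -/
theorem card_le_of_card_four (hA4 : Nat.card A ≤ 4) (H : Subgroup P) :
    Nat.card H ≤ 16 * Nat.card (sqSub H) := by
  classical
  haveI := Fintype.ofFinite A
  obtain ⟨hc1, hc2⟩ := hA.card_le_centralizer_part H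
  let e : H → Equiv.Perm {a : A // a ≠ 1} := fun x =>
    { toFun := fun a => ⟨⟨(x : P) * a * (x : P)⁻¹, hA.conj_mem a.1.2 _⟩, fun h => a.2 (Subtype.ext
        (conj_eq_one_iff.mp (congrArg Subtype.val h)))⟩
      invFun := fun a => ⟨⟨(x : P)⁻¹ * a * x, by
          have := hA.conj_mem a.1.2 (x : P)⁻¹
          rwa [inv_inv] at this⟩, fun h => a.2 (Subtype.ext (by
        have h' : (x : P)⁻¹ * a * x = 1 := congrArg Subtype.val h
        have := congrArg (fun z => (x : P) * z * (x : P)⁻¹) h'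
        simpa [mul_assoc] using this))⟩
      left_inv := fun a => by ext; simp [mul_assoc]
      right_inv := fun a => by ext; simp [mul_assoc] }
  obtain ⟨n, hn, hcard, -⟩ := hA.card_le_of_action H e (fun x y hxy a ha => by
    by_cases h1 : a = 1
    · simp [h1]
    · exact congrArg (fun f : Equiv.Perm {a : A // a ≠ 1} =>
        (((f ⟨⟨a, ha⟩, fun h => h1 (congrArg Subtype.val h)⟩).1 : A) : P)) hxy)
  rw [Nat.card_perm] at hn
  have hle : Nat.card {a : A // a ≠ 1} ≤ 3 := by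
    rw [Nat.card_eq_fintype_card, Fintype.card_subtype_compl, Fintype.card_subtype_eq]
    rw [Nat.card_eq_fintype_card] at hA4
    omega
  have h6 : 2 ^ n ≤ 6 := hn.trans ((Nat.factorial_le hle).trans (by decide))
  have hn2 : n ≤ 2 := by
    by_contra h
    have := Nat.pow_le_pow_right (show 2 > 0 by norm_num) (show 3 ≤ n by omega)
    omega
  have h4 : 2 ^ n ≤ 4 := (Nat.pow_le_pow_right (by norm_num) hn2).trans (by norm_num)
  calc Nat.card H = 2 ^ n * _ := hcard
    _ ≤ 4 * (4 * Nat.card (sqSub (H ⊓ Subgroup.centralizer (A : Set P)))) :=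
        Nat.mul_le_mul h4 hc1
    _ ≤ 16 * Nat.card (sqSub H) := by
        have := Subgroup.card_le_of_le (sqSub_mono (inf_le_left :
          H ⊓ Subgroup.centralizer (A : Set P) ≤ H))
        omega

/-- The squaring map `A → Ω₁(A)` has kernel `Ω₁(A)`. -/
theorem exists_sq_hom : ∃ f : A →* omegaOf A, (∀ a, ((f a : omegaOf A) : P) = a * a) ∧
    Nat.card A = Nat.card f.range * Nat.card (omegaOf A) := by
  let f : A →* omegaOf A :=
    { toFun := fun a => ⟨a * a, hA.sq_mem_omegaOf a.2⟩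
      map_one' := Subtype.ext (mul_one _)
      map_mul' := fun a b => Subtype.ext (by
        show (a : P) * b * (a * b) = a * a * (b * b)
        exact (hA.commute b.2 a.2).mul_mul_mul_comm _ _) }
  refine ⟨f, fun a => rfl, ?_⟩
  rw [← Subgroup.index_ker, ← f.ker.card_mul_index, mul_comm]
  congr 1
  refine Nat.card_congr
    { toFun := fun a => ⟨((a : A) : P), hA.mem_omegaOf.mpr ⟨(a : A).2, congrArg Subtype.val a.2⟩⟩
      invFun := fun b => ⟨⟨b, hA.omegaOf_le b.2⟩, Subtype.ext b.2.2⟩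
      left_inv := fun a => rfl
      right_inv := fun b => rfl }

theorem card_le_sixteen : Nat.card A ≤ 16 := by
  obtain ⟨f, -, hf⟩ := hA.exists_sq_hom
  rw [hf]
  exact (Nat.mul_le_mul (Subgroup.card_le_card_group _) le_rfl).trans
    (Nat.mul_le_mul hA.card_omegaOf_le hA.card_omegaOf_le)

/-- The bound when `|A| = 8`. -/
theorem card_le_of_card_eight (hA8 : Nat.card A = 8) (H : Subgroup P) :
    Nat.card H ≤ 16 * Nat.card (sqSub H) := by
  haveI := Fact.mk Nat.prime_two
  obtain ⟨hc1, hc2⟩ := hA.card_le_centralizer_part H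
  obtain ⟨f, hf, hcf⟩ := hA.exists_sq_hom
  have hB4 := hA.card_omegaOf_le
  have hrB : Nat.card f.range ≤ Nat.card (omegaOf A) := Subgroup.card_le_card_group _
  rw [hA8] at hcf
  have hBcard : Nat.card (omegaOf A) = 4 ∧ Nat.card f.range = 2 := by
    generalize Nat.card (omegaOf A) = x at *
    generalize Nat.card f.range = y at *
    interval_cases x <;> omega
  obtain ⟨hBcard, hrange⟩ := hBcard
  obtain ⟨a, ha, haB⟩ : ∃ a ∈ A, a ∉ omegaOf A := by
    by_contra hcon
    push Not at hcon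
    have := Subgroup.card_le_of_le (show A ≤ omegaOf A from hcon)
    omega
  set u := a * a with hu
  have hu1 : u ≠ 1 := fun h => haB (hA.mem_omegaOf.mpr ⟨ha, h⟩)
  -- every square in `A` is `1` or `u`
  have hsq : ∀ x ∈ A, x * x = 1 ∨ x * x = u := by
    intro x hx
    obtain ⟨z, -, hz⟩ := (Nat.card_eq_two_iff' (1 : f.range)).mp hrange
    by_cases h1 : x * x = 1
    · exact Or.inl h1
    refine Or.inr ?_
    have hfa := hz ⟨f ⟨a, ha⟩, ⟨a, ha⟩, rfl⟩ fun h => hu1 (by
      have := congrArg (fun w : f.range => ((w : omegaOf A) : P)) h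
      simpa [hf] using this)
    have hfx := hz ⟨f ⟨x, hx⟩, ⟨x, hx⟩, rfl⟩ fun h => h1 (by
      have := congrArg (fun w : f.range => ((w : omegaOf A) : P)) h
      simpa [hf] using this)
    have := congrArg (fun w : f.range => ((w : omegaOf A) : P)) (hfx.trans hfa.symm)
    simpa [hf] using this
  have hufix : ∀ g : P, g * u * g⁻¹ = u := by
    intro g
    have h := hsq (g * a * g⁻¹) (hA.conj_mem ha g)
    rw [show g * a * g⁻¹ * (g * a * g⁻¹) = g * u * g⁻¹ by rw [hu]; group] at h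
    exact h.resolve_left fun h1 => hu1 (conj_eq_one_iff.mp h1)
  -- every element outside `Ω₁(A)` lies in `a Ω₁(A)`
  have hcoset : ∀ x ∈ A, x * x ≠ 1 → a⁻¹ * x ∈ omegaOf A := by
    intro x hx h1
    refine hA.mem_omegaOf.mpr ⟨mul_mem (inv_mem ha) hx, ?_⟩
    rw [(hA.commute hx (inv_mem ha)).mul_mul_mul_comm, (hsq x hx).resolve_left h1, hu]
    group
  obtain ⟨b, hb, hbu⟩ : ∃ b ∈ omegaOf A, b ∉ Subgroup.zpowers u := by
    by_contra hcon
    push Not at hcon
    have h := Subgroup.card_le_of_le (show omegaOf A ≤ Subgroup.zpowers u from hcon)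
    rw [hBcard, Nat.card_zpowers, orderOf_eq_prime (p := 2) (by
      rw [pow_two]; exact (hA.sq_mem_omegaOf ha).2) hu1] at h
    omega
  have huB : Subgroup.zpowers u ≤ omegaOf A :=
    Subgroup.zpowers_le.mpr (hA.sq_mem_omegaOf ha)
  have hucard : Nat.card (Subgroup.zpowers u) = 2 := by
    rw [Nat.card_zpowers]
    exact orderOf_eq_prime (by rw [pow_two]; exact (hA.sq_mem_omegaOf ha).2) hu1
  -- `Ω₁(A) = ⟨u⟩ ∪ b⟨u⟩`
  have hcosetB : ∀ x ∈ omegaOf A, x ∉ Subgroup.zpowers u → b⁻¹ * x ∈ Subgroup.zpowers u := by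
    intro x hx hxu
    have hidx : ((Subgroup.zpowers u).subgroupOf (omegaOf A)).index = 2 := by
      have h := ((Subgroup.zpowers u).subgroupOf (omegaOf A)).card_mul_index
      rw [Nat.card_congr (Subgroup.subgroupOfEquivOfLe huB).toEquiv, hucard, hBcard] at h
      omega
    have h := (Subgroup.mul_mem_iff_of_index_two hidx (a := ⟨b, hb⟩⁻¹) (b := ⟨x, hx⟩)).mpr
      (iff_of_false (fun h => hbu (by simpa [Subgroup.mem_subgroupOf] using h))
        (fun h => hxu (by simpa [Subgroup.mem_subgroupOf] using h)))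
    simpa [Subgroup.mem_subgroupOf] using h
  have hF1 : ∀ g : P, a⁻¹ * (g * a * g⁻¹) ∈ omegaOf A := fun g =>
    hcoset _ (hA.conj_mem ha g) (by
      rw [show g * a * g⁻¹ * (g * a * g⁻¹) = g * u * g⁻¹ by rw [hu]; group, hufix]
      exact hu1)
  have hF2 : ∀ g : P, b⁻¹ * (g * b * g⁻¹) ∈ Subgroup.zpowers u := fun g =>
    hcosetB _ (hA.conj_mem_omegaOf hb g) fun h => hbu (by
      obtain ⟨k, hk⟩ := h
      refine ⟨k, ?_⟩
      have hk' : u ^ k = g * b * g⁻¹ := hk
      show u ^ k = b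
      have h3 : g⁻¹ * u ^ k * g = b := by rw [hk']; group
      have h4 : Commute g (u ^ k) := Commute.zpow_right (mul_inv_eq_iff_eq_mul.mp (hufix g)) k
      rw [← h3, mul_assoc, ← h4.eq, inv_mul_cancel_left])
  let F : H → omegaOf A × Subgroup.zpowers u := fun x =>
    (⟨_, hF1 x⟩, ⟨_, hF2 x⟩)
  obtain ⟨n, hn, hcard, hsurj⟩ := hA.card_le_of_action H F (fun x y hxy c hc => by
    have e1 : (x : P) * a * (x : P)⁻¹ = y * a * (y : P)⁻¹ :=
      mul_left_cancel (congrArg (fun z => ((z.1 : omegaOf A) : P)) hxy)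
    have e2 : (x : P) * b * (x : P)⁻¹ = y * b * (y : P)⁻¹ :=
      mul_left_cancel (congrArg (fun z => ((z.2 : Subgroup.zpowers u) : P)) hxy)
    -- both automorphisms agree on `Ω₁(A)` and on `a`
    have eu : (x : P) * u * (x : P)⁻¹ = y * u * (y : P)⁻¹ := by rw [hufix, hufix]
    have eB : ∀ z ∈ omegaOf A, (x : P) * z * (x : P)⁻¹ = y * z * (y : P)⁻¹ := by
      have ez : ∀ z ∈ Subgroup.zpowers u, (x : P) * z * (x : P)⁻¹ = y * z * (y : P)⁻¹ := by
        rintro z ⟨k, rfl⟩
        show (x : P) * u ^ k * (x : P)⁻¹ = y * u ^ k * (y : P)⁻¹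
        rw [← conj_zpow, ← conj_zpow, eu]
      intro z hz
      by_cases hzu : z ∈ Subgroup.zpowers u
      · exact ez z hzu
      have := ez _ (hcosetB z hz hzu)
      calc (x : P) * z * (x : P)⁻¹ = (x * b * (x : P)⁻¹) * (x * (b⁻¹ * z) * (x : P)⁻¹) := by group
        _ = (y * b * (y : P)⁻¹) * (y * (b⁻¹ * z) * (y : P)⁻¹) := by rw [e2, this]
        _ = y * z * (y : P)⁻¹ := by group
    by_cases h1 : c * c = 1
    · exact eB c (hA.mem_omegaOf.mpr ⟨hc, h1⟩)
    calc (x : P) * c * (x : P)⁻¹ = (x * a * (x : P)⁻¹) * (x * (a⁻¹ * c) * (x : P)⁻¹) := by group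
      _ = (y * a * (y : P)⁻¹) * (y * (a⁻¹ * c) * (y : P)⁻¹) := by rw [e1, eB _ (hcoset c hc h1)]
      _ = y * c * (y : P)⁻¹ := by group)
  rw [Nat.card_prod, hBcard, hucard] at hn hsurj
  set H0 := H ⊓ Subgroup.centralizer (A : Set P) with hH0
  by_cases hn3 : n ≤ 2
  · have h4 : 2 ^ n ≤ 4 := (Nat.pow_le_pow_right (by norm_num) hn3).trans (by norm_num)
    have := Subgroup.card_le_of_le (sqSub_mono (inf_le_left : H0 ≤ H))
    calc Nat.card H = 2 ^ n * _ := hcard
      _ ≤ 4 * (4 * Nat.card (sqSub H0)) := Nat.mul_le_mul h4 hc1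
      _ ≤ 16 * Nat.card (sqSub H) := by
          rw [← mul_assoc]
          exact Nat.mul_le_mul_left _ this
  have h8 : 2 ^ n = 8 := le_antisymm (by simpa using hn)
    ((show 2 ^ 3 ≤ 2 ^ n from Nat.pow_le_pow_right (by norm_num) (by omega)).trans' (by norm_num))
  -- two non-commuting automorphisms are induced, so the squares move `A`
  have hnot : ¬ sqSub H ≤ Subgroup.centralizer (A : Set P) := by
    intro hS
    obtain ⟨x, hx⟩ := hsurj (by simpa using h8) (⟨b, hb⟩, ⟨1, one_mem _⟩)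
    obtain ⟨y, hy⟩ := hsurj (by simpa using h8) (⟨1, one_mem _⟩, ⟨u, Subgroup.mem_zpowers u⟩)
    have hxa : (x : P) * a * (x : P)⁻¹ = a * b := by
      have h : a⁻¹ * ((x : P) * a * (x : P)⁻¹) = b :=
        congrArg (fun z => ((z.1 : omegaOf A) : P)) hx
      exact inv_mul_eq_iff_eq_mul.mp h
    have hya : (y : P) * a * (y : P)⁻¹ = a := by
      have h : a⁻¹ * ((y : P) * a * (y : P)⁻¹) = 1 :=
        congrArg (fun z => ((z.1 : omegaOf A) : P)) hy
      exact (inv_mul_eq_one.mp h).symm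
    have hyb : (y : P) * b * (y : P)⁻¹ = b * u := by
      have h : b⁻¹ * ((y : P) * b * (y : P)⁻¹) = u :=
        congrArg (fun z => ((z.2 : Subgroup.zpowers u) : P)) hy
      exact inv_mul_eq_iff_eq_mul.mp h
    have hc : (x : P) * y * (x : P)⁻¹ * (y : P)⁻¹ ∈ sqSub H :=
      commutator_mem_of_sq_mem (fun z hz => mul_self_mem_sqSub hz) x.2 y.2
    have hfix : a * ((x : P) * y * (x : P)⁻¹ * (y : P)⁻¹) =
        (x : P) * y * (x : P)⁻¹ * (y : P)⁻¹ * a := hS hc a ha
    have h1 : ((x : P) * y) * a * ((x : P) * y)⁻¹ = a * b := by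
      calc ((x : P) * y) * a * ((x : P) * y)⁻¹ = x * (y * a * (y : P)⁻¹) * (x : P)⁻¹ := by group
        _ = a * b := by rw [hya, hxa]
    have h2 : ((y : P) * x) * a * ((y : P) * x)⁻¹ = a * (b * u) := by
      calc ((y : P) * x) * a * ((y : P) * x)⁻¹ = y * (x * a * (x : P)⁻¹) * (y : P)⁻¹ := by group
        _ = (y * a * (y : P)⁻¹) * (y * b * (y : P)⁻¹) := by rw [hxa]; group
        _ = a * (b * u) := by rw [hya, hyb]
    have hfix2 : a * (((y : P) * x)⁻¹ * ((x : P) * y)) = ((y : P) * x)⁻¹ * ((x : P) * y) * a := by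
      have hc' : (y : P)⁻¹ * (x : P)⁻¹ * y * x ∈ sqSub H := by
        have := commutator_mem_of_sq_mem (fun z hz => mul_self_mem_sqSub hz)
          (inv_mem y.2) (inv_mem x.2)
        simpa using this
      have h := hS (inv_mem hc') a ha
      simpa [mul_inv_rev, mul_assoc] using h
    have h3 : ((x : P) * y) * a * ((x : P) * y)⁻¹ = ((y : P) * x) * a * ((y : P) * x)⁻¹ := by
      calc ((x : P) * y) * a * ((x : P) * y)⁻¹
          = ((y : P) * x) * ((((y : P) * x)⁻¹ * ((x : P) * y)) * a) * ((x : P) * y)⁻¹ := by group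
        _ = ((y : P) * x) * (a * (((y : P) * x)⁻¹ * ((x : P) * y))) * ((x : P) * y)⁻¹ := by rw [hfix2]
        _ = ((y : P) * x) * a * ((y : P) * x)⁻¹ := by group
    rw [h1, h2] at h3
    exact hu1 (left_eq_mul.mp (mul_left_cancel h3))
  have hlt : 2 * Nat.card ↥(sqSub H ⊓ Subgroup.centralizer (A : Set P)) ≤ Nat.card (sqSub H) := by
    set K := sqSub H ⊓ Subgroup.centralizer (A : Set P)
    have hKle : K ≤ sqSub H := inf_le_left
    obtain ⟨d, hd⟩ := Subgroup.card_dvd_of_le hKle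
    have hd0 : d ≠ 0 := fun h => Nat.card_pos.ne' (by rw [hd, h, mul_zero])
    have hd1 : d ≠ 1 := fun h => hnot (by
      have h' := Subgroup.eq_of_le_of_card_ge hKle (by rw [hd, h, mul_one])
      exact h'.ge.trans inf_le_right)
    rw [hd, mul_comm 2]
    exact Nat.mul_le_mul_left _ (by omega)
  calc Nat.card H = 2 ^ n * _ := hcard
    _ ≤ 8 * (4 * Nat.card (sqSub H0)) := Nat.mul_le_mul h8.le hc1
    _ ≤ 16 * Nat.card (sqSub H) := by omega

end Frame

end CfsgLib.MacWilliams
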