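import Mathlib
import Cfsg.Agent.Lib.Transfer.PGroup

/-!
Two-groups with few involutions in which the elements of order at most four are central, and
Alperin's lemma for maximal normal abelian subgroups of exponent four.
-/

set_option autoImplicit false
set_option linter.style.haveILetI false

open scoped commutatorElement

namespace CfsgLib.MacWilliams

universe u

variable {G : Type u} [Group G]

/-- The subgroup generated by the squares of the elements of `H`. -/
def sqSub (H : Subgroup G) : Subgroup G := Subgroup.closure ((fun x => x * x) '' (H : Set G))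

theorem mul_self_mem_sqSub {H : Subgroup G} {x : G} (hx : x ∈ H) : x * x ∈ sqSub H :=
  Subgroup.subset_closure ⟨x, hx, rfl⟩

theorem sqSub_le_iff {H K : Subgroup G} : sqSub H ≤ K ↔ ∀ x ∈ H, x * x ∈ K := by
  rw [sqSub, Subgroup.closure_le]
  exact ⟨fun h x hx => h ⟨x, hx, rfl⟩, fun h _ ⟨x, hx, e⟩ => e ▸ h x hx⟩

theorem sqSub_le (H : Subgroup G) : sqSub H ≤ H :=
  sqSub_le_iff.mpr fun _ hx => mul_mem hx hx

theorem sqSub_mono {H K : Subgroup G} (h : H ≤ K) : sqSub H ≤ sqSub K :=
  sqSub_le_iff.mpr fun _ hx => mul_self_mem_sqSub (h hx)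

/-- Commutators are products of squares. -/
theorem commutator_mem_of_sq_mem {H K : Subgroup G} (h : ∀ x ∈ H, x * x ∈ K) {x y : G}
    (hx : x ∈ H) (hy : y ∈ H) : x * y * x⁻¹ * y⁻¹ ∈ K := by
  have e : x * y * x⁻¹ * y⁻¹ = (x * x) * ((x⁻¹ * y) * (x⁻¹ * y)) * (y * y)⁻¹ := by group
  rw [e]
  exact mul_mem (mul_mem (h x hx) (h _ (mul_mem (inv_mem hx) hy))) (inv_mem (h y hy))

theorem conj_mem_of_sq_mem {H K : Subgroup G} (hKH : K ≤ H) (h : ∀ x ∈ H, x * x ∈ K) {x k : G}
    (hx : x ∈ H) (hk : k ∈ K) : x * k * x⁻¹ ∈ K := by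
  have e : x * k * x⁻¹ = (x * k * x⁻¹ * k⁻¹) * k := by group
  rw [e]
  exact mul_mem (commutator_mem_of_sq_mem h hx (hKH hk)) hk

theorem normal_of_sq_mem {K : Subgroup G} (h : ∀ x : G, x * x ∈ K) : K.Normal :=
  ⟨fun _ hk x => conj_mem_of_sq_mem (H := ⊤) le_top (fun y _ => h y) (Subgroup.mem_top x) hk⟩

theorem map_sqSub {G' : Type*} [Group G'] (f : G →* G') (H : Subgroup G) :
    (sqSub H).map f = sqSub (H.map f) := by
  rw [sqSub, sqSub, MonoidHom.map_closure]
  congr 1
  ext y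
  constructor
  · rintro ⟨_, ⟨x, hx, rfl⟩, rfl⟩
    exact ⟨f x, ⟨x, hx, rfl⟩, (map_mul f x x).symm⟩
  · rintro ⟨_, ⟨x, hx, rfl⟩, rfl⟩
    exact ⟨x * x, ⟨x, hx, rfl⟩, map_mul f x x⟩

/-- The involutions and `1`, when these are central. -/
def omegaOne (G : Type u) [Group G] : Subgroup G where
  carrier := {x | x * x = 1 ∧ x ∈ Subgroup.center G}
  one_mem' := ⟨one_mul 1, one_mem _⟩
  mul_mem' := fun {a b} ha hb => ⟨by
    calc a * b * (a * b) = a * (b * a) * b := by group
      _ = a * (a * b) * b := by rw [(Subgroup.mem_center_iff.mp ha.2 b).symm.symm]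
      _ = (a * a) * (b * b) := by group
      _ = 1 := by rw [ha.1, hb.1, one_mul], mul_mem ha.2 hb.2⟩
  inv_mem' := fun {a} ha => ⟨by rw [← mul_inv_rev, ha.1, inv_one], inv_mem ha.2⟩

theorem mem_omegaOne {x : G} : x ∈ omegaOne G ↔ x * x = 1 ∧ x ∈ Subgroup.center G := Iff.rfl

instance omegaOne_normal : (omegaOne G).Normal :=
  ⟨fun x hx g => by
    rwa [Subgroup.mem_center_iff.mp hx.2 g, mul_inv_cancel_right]⟩

theorem card_omegaOne_le [Finite G] (Q : Subgroup G) :
    Nat.card (omegaOne Q) ≤ Nat.card {x : G // x * x = 1} :=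
  Nat.card_le_card_of_injective
    (fun x => (⟨((x : Q) : G), by simpa using congrArg Subtype.val x.2.1⟩ : {x : G // x * x = 1}))
    fun x y hxy => Subtype.ext (Subtype.ext (congrArg Subtype.val hxy :))

variable [Finite G]

/-- If the elements of order at most `4` are central, commutators with elements of order at most `8`
are involutions or trivial. -/
theorem commutator_mem_omegaOne (hG : IsPGroup 2 G)
    (h4 : ∀ x : G, x ^ 4 = 1 → x ∈ Subgroup.center G) {x : G} (hx : x ^ 8 = 1) (y : G) :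
    y * x * y⁻¹ * x⁻¹ ∈ omegaOne G := by
  have := hG.isNilpotent
  obtain ⟨n, hn⟩ := Subgroup.nilpotent_iff_lowerCentralSeries.mp
    (inferInstance : Group.IsNilpotent G)
  have hx2 : x * x ∈ Subgroup.center G := h4 _ (by rw [← pow_two, ← pow_mul]; exact hx)
  suffices key : ∀ i, ∀ y ∈ (⊤ : Subgroup G).lowerCentralSeries (n - i),
      y * x * y⁻¹ * x⁻¹ ∈ omegaOne G from
    key n y (by simp [Subgroup.lowerCentralSeries_zero])
  intro i
  induction i with
  | zero =>
    intro y hy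
    rw [Nat.sub_zero, hn, Subgroup.mem_bot] at hy
    subst hy
    simp [one_mem]
  | succ i ih =>
    intro y hy
    set c := y * x * y⁻¹ * x⁻¹ with hc
    have hcm : c ∈ (⊤ : Subgroup G).lowerCentralSeries (n - i) := by
      refine Subgroup.lowerCentralSeries_antitone _ (show n - i ≤ n - (i + 1) + 1 by omega) ?_
      rw [Subgroup.lowerCentralSeries_succ]
      exact Subgroup.commutator_mem_commutator hy (Subgroup.mem_top x)
    have h1 := ih c hcm
    -- `x c x⁻¹ = c⁻¹`, so the new commutator is `c²`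
    have h2 : x * c * x⁻¹ = c⁻¹ := by
      have e : y * (x * x) * y⁻¹ = c * (x * c * x⁻¹) * (x * x) := by rw [hc]; group
      rw [Subgroup.mem_center_iff.mp hx2 y, mul_inv_cancel_right] at e
      exact eq_inv_of_mul_eq_one_right (mul_eq_right.mp e.symm)
    have h3 : c * x * c⁻¹ * x⁻¹ = c * c := by
      have e : x * c⁻¹ * x⁻¹ = c := by
        have := congrArg (·⁻¹) h2
        simpa [mul_inv_rev, mul_assoc] using this
      calc c * x * c⁻¹ * x⁻¹ = c * (x * c⁻¹ * x⁻¹) := by group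
        _ = c * c := by rw [e]
    rw [h3] at h1
    have hc4 : c ^ 4 = 1 := by
      rw [show (4 : ℕ) = 2 * 2 from rfl, pow_mul, pow_two, pow_two]
      exact h1.1
    have hcc := h4 c hc4
    refine ⟨?_, hcc⟩
    rw [Subgroup.mem_center_iff.mp hcc x, mul_inv_cancel_right] at h2
    exact eq_inv_iff_mul_eq_one.mp h2

/-- If the elements of order at most `4` of a `2`-group are central, the index of the squares is at
most the number of solutions of `x² = 1`. -/
theorem index_sqSub_le (hG : IsPGroup 2 G) (h4 : ∀ x : G, x ^ 4 = 1 → x ∈ Subgroup.center G) :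
    (sqSub (⊤ : Subgroup G)).index ≤ Nat.card (omegaOne G) := by
  suffices H : ∀ (n : ℕ) (G : Type u) [Group G] [Finite G], Nat.card G = n → IsPGroup 2 G →
      (∀ x : G, x ^ 4 = 1 → x ∈ Subgroup.center G) →
      (sqSub (⊤ : Subgroup G)).index ≤ Nat.card (omegaOne G) from H _ G rfl hG h4
  clear h4 hG
  intro n
  induction n using Nat.strong_induction_on with
  | _ n ih =>
  intro G _ _ hn hG h4
  subst hn
  haveI := Fact.mk Nat.prime_two
  rcases subsingleton_or_nontrivial G with hsub | hnon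
  · rw [Subgroup.index_eq_one.mpr (Subsingleton.elim _ _)]
    exact Nat.one_le_iff_ne_zero.mpr Nat.card_pos.ne'
  have hW : ∀ x : G, x * x = 1 → x ∈ omegaOne G := fun x hx =>
    ⟨hx, h4 x (by rw [show (4 : ℕ) = 2 * 2 from rfl, pow_mul, pow_two x, hx, one_pow])⟩
  set W := omegaOne G with hWdef
  set S := sqSub (⊤ : Subgroup G) with hS
  by_cases hle : W ≤ S
  · -- pass to `G / W`
    have hπ : Function.Surjective (QuotientGroup.mk' W) := QuotientGroup.mk'_surjective W
    obtain ⟨w, hw, hw1⟩ : ∃ w ∈ W, w ≠ 1 := by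
      obtain ⟨z, hz⟩ := exists_prime_orderOf_dvd_card' 2
        (show 2 ∣ Nat.card G by
          obtain ⟨k, hk, hk'⟩ := hG.nontrivial_iff_card.mp hnon
          exact hk' ▸ dvd_pow_self 2 (by omega))
      refine ⟨z, hW z ?_, fun h1 => by simp [h1] at hz⟩
      rw [← pow_two, ← hz, pow_orderOf_eq_one]
    have hlt : Nat.card (G ⧸ W) < Nat.card G := by
      rw [Subgroup.card_eq_card_quotient_mul_card_subgroup W]
      refine lt_mul_of_one_lt_right Nat.card_pos ?_
      exact W.one_lt_card_iff_ne_bot.mpr fun h0 => hw1 (Subgroup.mem_bot.mp (h0 ▸ hw))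
    have h4' : ∀ X : G ⧸ W, X ^ 4 = 1 → X ∈ Subgroup.center (G ⧸ W) := by
      intro X hX
      obtain ⟨x, rfl⟩ := hπ X
      rw [← map_pow, QuotientGroup.mk'_apply, QuotientGroup.eq_one_iff] at hX
      have h8 : x ^ 8 = 1 := by
        have := hX.1
        rwa [← pow_add] at this
      rw [Subgroup.mem_center_iff]
      intro Y
      obtain ⟨y, rfl⟩ := hπ Y
      have h := commutator_mem_omegaOne hG h4 h8 y
      rw [← map_mul, ← map_mul, QuotientGroup.mk'_apply, QuotientGroup.mk'_apply,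
        QuotientGroup.eq]
      have e : (y * x)⁻¹ * (x * y) = (y * x)⁻¹ * (y * x * y⁻¹ * x⁻¹)⁻¹ * ((y * x)⁻¹)⁻¹ := by group
      rw [e]
      exact omegaOne_normal.conj_mem _ (inv_mem h) _
    have hcard : Nat.card (omegaOne (G ⧸ W)) ≤ Nat.card W := by
      have hsq : ∀ X : omegaOne (G ⧸ W), ∃ x : G, QuotientGroup.mk' W x = X ∧ x * x ∈ W := by
        intro X
        obtain ⟨x, hx⟩ := hπ (X : G ⧸ W)
        refine ⟨x, hx, ?_⟩
        rw [← QuotientGroup.eq_one_iff, ← QuotientGroup.mk'_apply, map_mul, hx]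
        exact X.2.1
      choose f hf hf' using hsq
      refine Nat.card_le_card_of_injective (fun X => (⟨f X * f X, hf' X⟩ : W)) fun X Y hXY => ?_
      have h1 : f X * f X = f Y * f Y := congrArg Subtype.val hXY
      have hxc : f Y ∈ Subgroup.center G := h4 _ (by
        rw [show (4 : ℕ) = 2 * 2 from rfl, pow_mul, pow_two, pow_two]; exact (hf' Y).1)
      refine Subtype.ext ?_
      rw [← hf X, ← hf Y, QuotientGroup.mk'_apply, QuotientGroup.mk'_apply, QuotientGroup.eq]
      refine hW _ ?_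
      have hcm : Commute (f X)⁻¹ (f Y) := Subgroup.mem_center_iff.mp hxc (f X)⁻¹
      calc (f X)⁻¹ * f Y * ((f X)⁻¹ * f Y)
          = (f X)⁻¹ * (f Y * (f X)⁻¹) * f Y := by group
        _ = (f X)⁻¹ * ((f X)⁻¹ * f Y) * f Y := by rw [hcm.eq]
        _ = (f X * f X)⁻¹ * (f Y * f Y) := by group
        _ = 1 := by rw [h1, inv_mul_cancel]
    have hidx : (sqSub (⊤ : Subgroup (G ⧸ W))).index = S.index := by
      rw [← Subgroup.map_top_of_surjective (QuotientGroup.mk' W) hπ, ← map_sqSub,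
        Subgroup.index_map_eq (hf1 := hπ) (hf2 := by rw [QuotientGroup.ker_mk']; exact hle)]
    rw [← hidx]
    exact (ih _ hlt (G ⧸ W) rfl (hG.to_quotient W) h4').trans hcard
  · -- split off a direct factor of order two
    obtain ⟨z, hzW, hzS⟩ := SetLike.not_le_iff_exists.mp hle
    obtain ⟨Q, ⟨hSQ, hzQ⟩, hmax⟩ :=
      (Set.toFinite {Q : Subgroup G | S ≤ Q ∧ z ∉ Q}).exists_maximal ⟨S, le_rfl, hzS⟩
    haveI hQn : Q.Normal := normal_of_sq_mem fun x => hSQ (mul_self_mem_sqSub (Subgroup.mem_top x))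
    have hQ2 : Q.index = 2 := by
      rw [Subgroup.index_eq_two_iff]
      refine ⟨z, fun b => ?_⟩
      by_cases hb : b ∈ Q
      · exact Or.inr ⟨hb, fun h => hzQ (by simpa using mul_mem (inv_mem hb) h)⟩
      · refine Or.inl ⟨?_, hb⟩
        have hzb : z ∈ Q ⊔ Subgroup.zpowers b := by
          by_contra hz'
          exact hb (hmax ⟨hSQ.trans le_sup_left, hz'⟩ le_sup_left
            (Subgroup.mem_sup_right (Subgroup.mem_zpowers b)))
        obtain ⟨q, hq, _, ⟨k, rfl⟩, hqk⟩ := Subgroup.mem_sup_of_normal_left.mp hzb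
        rw [show b * z = (b * q * b⁻¹) * b ^ (k + 1) by
          rw [← hqk]; simp only [zpow_add, zpow_one]; group]
        refine mul_mem (hQn.conj_mem q hq b) ?_
        have hbb : b * b ∈ Q := hSQ (mul_self_mem_sqSub (Subgroup.mem_top b))
        rcases Int.even_or_odd' k with ⟨m, rfl | rfl⟩
        · refine absurd ?_ hzQ
          rw [← hqk]
          refine mul_mem hq ?_
          show b ^ (2 * m) ∈ Q
          rw [zpow_mul, zpow_two]
          exact zpow_mem hbb m
        · rw [show 2 * m + 1 + 1 = 2 * (m + 1) by ring, zpow_mul, zpow_two]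
          exact zpow_mem hbb _
    have hcardQ : Nat.card Q < Nat.card G := by
      have h1 := Q.card_mul_index
      rw [hQ2] at h1
      have h2 : 0 < Nat.card Q := Nat.card_pos
      omega
    have hQ4 : ∀ x : Q, x ^ 4 = 1 → x ∈ Subgroup.center Q := fun x hx =>
      Subgroup.mem_center_iff.mpr fun y => Subtype.ext
        (Subgroup.mem_center_iff.mp (h4 x (by simpa using congrArg Subtype.val hx)) y)
    have hQ := ih _ hcardQ Q rfl (hG.to_subgroup Q) hQ4
    -- half of the involutions lie in `Q`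
    have hhalf : Nat.card (omegaOne Q) * 2 ≤ Nat.card W := by
      have : Nat.card (omegaOne Q × Bool) ≤ Nat.card W := by
        refine Nat.card_le_card_of_injective (fun x => (⟨((x.1 : Q) : G) * (bif x.2 then z else 1),
          mul_mem (hW _ (by simpa using congrArg Subtype.val x.1.2.1)) (by
            cases x.2
            · exact one_mem _
            · exact hzW)⟩ : W)) ?_
        rintro ⟨x, bx⟩ ⟨y, by'⟩ hxy
        have h1 := congrArg Subtype.val hxy
        cases bx <;> cases by' <;> simp only [cond_true, cond_false, mul_one] at h1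
        · rw [Subtype.ext (Subtype.ext h1 :) ]
        · exact absurd (by
            have := mul_mem (inv_mem (y : Q).2) (h1 ▸ (x : Q).2 : ((y : Q) : G) * z ∈ Q)
            simpa using this) hzQ
        · exact absurd (by
            have := mul_mem (inv_mem (x : Q).2) (h1.symm ▸ (y : Q).2 : ((x : Q) : G) * z ∈ Q)
            simpa using this) hzQ
        · rw [Subtype.ext (Subtype.ext (mul_right_cancel h1) :)]
      rwa [Nat.card_prod, Nat.card_eq_fintype_card (α := Bool), Fintype.card_bool] at this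
    have hmapQ : (sqSub (⊤ : Subgroup Q)).map Q.subtype ≤ S := by
      rw [map_sqSub]
      exact sqSub_mono le_top
    have hle2 : S.index ≤ ((sqSub (⊤ : Subgroup Q)).map Q.subtype).index :=
      Nat.le_of_dvd (Nat.pos_of_ne_zero Subgroup.index_ne_zero_of_finite)
        (Subgroup.index_dvd_of_le hmapQ)
    rw [Subgroup.index_map_subtype, hQ2] at hle2
    exact hle2.trans ((Nat.mul_le_mul_right 2 hQ).trans hhalf)

/-- Alperin: a maximal normal abelian subgroup of exponent dividing `4` contains all elements of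
order dividing `4` centralizing it. -/
theorem mem_of_pow_four (hG : IsPGroup 2 G) {A : Subgroup G} [hAn : A.Normal]
    (hAc : IsMulCommutative A) (hA4 : ∀ a ∈ A, a ^ 4 = 1)
    (hmax : ∀ B : Subgroup G, B.Normal → IsMulCommutative B → (∀ b ∈ B, b ^ 4 = 1) → A ≤ B → B ≤ A)
    {x : G} (hxC : x ∈ Subgroup.centralizer (A : Set G)) (hx4 : x ^ 4 = 1) : x ∈ A := by
  by_contra hxA
  haveI := Fact.mk Nat.prime_two
  have := hG.isNilpotent
  have hAle : A ≤ Subgroup.centralizer (A : Set G) := A.le_centralizer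
  obtain ⟨K, ⟨hKn, hAK, hKC, y, hyK, hy4, hyA⟩, hKmin⟩ :=
    (Set.toFinite {K : Subgroup G | K.Normal ∧ A ≤ K ∧ K ≤ Subgroup.centralizer (A : Set G) ∧
      ∃ y ∈ K, y ^ 4 = 1 ∧ y ∉ A}).exists_minimal
      ⟨_, inferInstance, hAle, le_rfl, x, hxC, hx4, hxA⟩
  obtain ⟨L, ⟨hLn, hAL, hLK⟩, hLmax⟩ :=
    (Set.toFinite {L : Subgroup G | L.Normal ∧ A ≤ L ∧ L < K}).exists_maximal
      ⟨A, hAn, le_rfl, lt_of_le_of_ne hAK fun h => hyA (h ▸ hyK)⟩
  haveI := hLn
  haveI := hKn
  have hKP : ⁅K, (⊤ : Subgroup G)⁆ ≤ L := by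
    have hLle : L ⊔ ⁅K, (⊤ : Subgroup G)⁆ ≤ K := sup_le hLK.le (Subgroup.commutator_le_left K ⊤)
    rcases eq_or_lt_of_le hLle with h | h
    · exact absurd (CfsgLib.Transfer.le_of_le_sup_commutator h.ge) (not_le_of_gt hLK)
    · exact le_sup_right.trans (hLmax ⟨inferInstance, hAL.trans le_sup_left, h⟩ le_sup_left)
  have hcom : ∀ k ∈ K, ∀ g : G, k⁻¹ * (g * k * g⁻¹) ∈ L := fun k hk g => by
    have := hKP (Subgroup.commutator_mem_commutator (inv_mem hk) (Subgroup.mem_top g))
    simpa [commutatorElement_def, mul_assoc] using this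
  -- squares of `K` lie in `L`
  have hsq : ∀ k ∈ K, k * k ∈ L := by
    intro k hk
    by_contra hkk
    have hN : (L ⊔ Subgroup.zpowers (k * k)).Normal := by
      refine ⟨fun n hn g => ?_⟩
      obtain ⟨l, hl, _, ⟨i, rfl⟩, rfl⟩ := Subgroup.mem_sup_of_normal_left.mp hn
      have hkK : (k * k) ^ i ∈ K := zpow_mem (mul_mem hk hk) i
      rw [show g * (l * (k * k) ^ i) * g⁻¹ = (g * l * g⁻¹) *
        ((k * k) ^ i * (((k * k) ^ i)⁻¹ * (g * (k * k) ^ i * g⁻¹))) by group]
      exact mul_mem (Subgroup.mem_sup_left (hLn.conj_mem l hl g))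
        (mul_mem (Subgroup.mem_sup_right ⟨i, rfl⟩) (Subgroup.mem_sup_left (hcom _ hkK g)))
    have hle : L ⊔ Subgroup.zpowers (k * k) ≤ K :=
      sup_le hLK.le (Subgroup.zpowers_le.mpr (mul_mem hk hk))
    rcases eq_or_lt_of_le hle with h | h
    · -- `k` would be a power of `k²` modulo `L`, so lie in `L`
      obtain ⟨l, hl, _, ⟨i, rfl⟩, he⟩ :=
        Subgroup.mem_sup_of_normal_left.mp (h.ge hk : k ∈ L ⊔ Subgroup.zpowers (k * k))
      set j : ℤ := 2 * i - 1 with hj
      have hkj : k ^ j ∈ L := by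
        have e : k ^ j = l⁻¹ := by
          have e1 : k ^ (2 * i) = l⁻¹ * k := by
            rw [zpow_mul, zpow_two, eq_inv_mul_iff_mul_eq]; exact he
          rw [hj, zpow_sub, e1, zpow_one, mul_inv_cancel_right]
        rw [e]; exact inv_mem hl
      obtain ⟨m, hm⟩ := hG k
      have hkm : k ^ ((2 ^ m : ℕ) : ℤ) ∈ L := by
        rw [zpow_natCast, hm]; exact one_mem L
      have hcop : IsCoprime j ((2 ^ m : ℕ) : ℤ) := by
        push_cast
        exact (Int.isCoprime_iff_gcd_eq_one.mpr (by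
          show Int.gcd (2 * i - 1) 2 = 1
          rw [show (2 * i - 1 : ℤ) = -1 + i * 2 by ring, Int.gcd_add_mul_right_left]
          rfl)).pow_right
      obtain ⟨a, b, hab⟩ := hcop
      refine hkk (mul_mem ?_ ?_) <;>
      · rw [← zpow_one k, ← hab, zpow_add, mul_comm a, mul_comm b, zpow_mul, zpow_mul]
        exact mul_mem (zpow_mem hkj a) (zpow_mem hkm b)
    · exact hkk (hLmax ⟨hN, hAL.trans le_sup_left, h⟩ le_sup_left
        (Subgroup.mem_sup_right (Subgroup.mem_zpowers _)))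
  -- elements of order dividing four of `L` lie in `A`
  have hLA : ∀ l ∈ L, l ^ 4 = 1 → l ∈ A := fun l hl hl4 => by
    by_contra hlA
    exact hLK.not_ge (hKmin ⟨hLn, hAL, hLK.le.trans hKC, l, hl, hl4, hlA⟩ hLK.le)
  have hcen : ∀ a ∈ A, ∀ c ∈ Subgroup.centralizer (A : Set G), Commute a c := fun a ha c hc => hc a ha
  have hy2A : y * y ∈ A := hLA _ (hsq y hyK) (by
    rw [← pow_two, ← pow_mul, mul_comm, pow_mul, hy4, one_pow])
  -- the conjugates of `y` differ from it by elements of `A`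
  have hyconj : ∀ g : G, y⁻¹ * (g * y * g⁻¹) ∈ A := by
    intro g
    set l := y⁻¹ * (g * y * g⁻¹) with hl
    have hlL : l ∈ L := hcom y hyK g
    set a := y⁻¹ * l * y * l with ha'
    have haeq : a = (y * y)⁻¹ * (g * (y * y) * g⁻¹) := by rw [ha', hl]; group
    have haA : a ∈ A := haeq ▸ mul_mem (inv_mem hy2A) (hAn.conj_mem _ hy2A g)
    have ha2 : a * a = 1 := by
      have h1 : (y * y) * (y * y) = 1 := by rw [← pow_two, ← pow_two, ← pow_mul]; exact hy4
      have h2 : (g * (y * y) * g⁻¹) * (g * (y * y) * g⁻¹) = 1 := by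
        calc (g * (y * y) * g⁻¹) * (g * (y * y) * g⁻¹) = g * ((y * y) * (y * y)) * g⁻¹ := by group
          _ = 1 := by rw [h1]; group
      have hc1 : Commute ((y * y)⁻¹) (g * (y * y) * g⁻¹) :=
        hcen _ (inv_mem hy2A) _ (hAle (hAn.conj_mem _ hy2A g))
      rw [haeq, hc1.symm.mul_mul_mul_comm, ← mul_inv_rev, h1, h2, inv_one, one_mul]
    by_contra hlA
    -- the last power of `l` outside `A`
    classical
    obtain ⟨m, hm⟩ := hG l
    have hex : ∃ k, l ^ 2 ^ k ∈ A := ⟨m, by rw [hm]; exact one_mem A⟩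
    set k := Nat.find hex with hk
    have hk0 : k ≠ 0 := fun h0 => hlA (by
      have := Nat.find_spec hex
      rwa [← hk, h0, pow_zero, pow_one] at this)
    set l' := l ^ 2 ^ (k - 1) with hl'
    have hl'A : l' ∉ A := Nat.find_min hex (by omega)
    have he : l' * l' ∈ A := by
      have := Nat.find_spec hex
      rwa [← hk, show k = k - 1 + 1 by omega, pow_succ, pow_mul, ← hl', pow_two] at this
    have hal : Commute a l := hcen a haA l (hKC (hLK.le hlL))
    have h1 : y⁻¹ * l * y = a * l⁻¹ := by rw [ha', mul_inv_cancel_right]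
    have h2 : y⁻¹ * l' * y = a ^ 2 ^ (k - 1) * l'⁻¹ := by
      have e := conj_pow (i := 2 ^ (k - 1)) (a := y⁻¹) (b := l)
      rw [inv_inv] at e
      rw [hl', ← e, h1, hal.inv_right.mul_pow, inv_pow]
    have hal' : Commute (a ^ 2 ^ (k - 1)) l' := hal.pow_pow _ _
    have h3 : y⁻¹ * (l' * l') * y = (l' * l')⁻¹ := by
      calc y⁻¹ * (l' * l') * y = (y⁻¹ * l' * y) * (y⁻¹ * l' * y) := by group
        _ = (a ^ 2 ^ (k - 1) * l'⁻¹) * (a ^ 2 ^ (k - 1) * l'⁻¹) := by rw [h2]
        _ = (a * a) ^ 2 ^ (k - 1) * (l'⁻¹ * l'⁻¹) := by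
            rw [(hal'.inv_right.symm).mul_mul_mul_comm, (Commute.refl a).mul_pow]
        _ = (l' * l')⁻¹ := by rw [ha2, one_pow, one_mul, mul_inv_rev]
    rw [mul_assoc, (hcen _ he y (hKC hyK)).eq, inv_mul_cancel_left] at h3
    have h4' : l' ^ 4 = 1 := by
      rw [show (4 : ℕ) = 2 * 2 from rfl, pow_mul, pow_two, pow_two]
      exact eq_inv_iff_mul_eq_one.mp h3
    exact hl'A (hLA l' (pow_mem hlL _) h4')
  -- `A ⊔ ⟨y⟩` contradicts maximality
  have hBn : (A ⊔ Subgroup.zpowers y).Normal := by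
    refine ⟨fun n hn g => ?_⟩
    obtain ⟨a, ha, _, ⟨i, rfl⟩, rfl⟩ := Subgroup.mem_sup_of_normal_left.mp hn
    rw [show g * (a * y ^ i) * g⁻¹ = (g * a * g⁻¹) * (g * y * g⁻¹) ^ i by rw [conj_zpow]; group]
    refine mul_mem (Subgroup.mem_sup_left (hAn.conj_mem a ha g)) (zpow_mem ?_ i)
    rw [show g * y * g⁻¹ = y * (y⁻¹ * (g * y * g⁻¹)) by group]
    exact mul_mem (Subgroup.mem_sup_right (Subgroup.mem_zpowers y))
      (Subgroup.mem_sup_left (hyconj g))
  have hBc : ∀ n ∈ A ⊔ Subgroup.zpowers y, ∃ a ∈ A, ∃ i : ℤ, a * y ^ i = n := fun n hn => by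
    obtain ⟨a, ha, _, ⟨i, rfl⟩, rfl⟩ := Subgroup.mem_sup_of_normal_left.mp hn
    exact ⟨a, ha, i, rfl⟩
  have hy' : ∀ a ∈ A, Commute a y := fun a ha => hcen a ha y (hKC hyK)
  refine hyA (hmax _ hBn ⟨⟨fun u v => Subtype.ext ?_⟩⟩ (fun b hb => ?_) le_sup_left
    (Subgroup.mem_sup_right (Subgroup.mem_zpowers y)))
  · obtain ⟨a, ha, i, hu⟩ := hBc u u.2
    obtain ⟨a', ha', i', hv⟩ := hBc v v.2
    show (u : G) * v = v * u
    rw [← hu, ← hv]
    exact ((hcen a ha a' (hAle ha')).mul_right ((hy' a ha).zpow_right i')).mul_left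
      (((hy' a' ha').symm.zpow_left i).mul_right ((Commute.refl y).zpow_zpow i i')) |>.eq
  · obtain ⟨a, ha, i, rfl⟩ := hBc b hb
    rw [((hy' a ha).zpow_right i).mul_pow, hA4 a ha, one_mul, ← zpow_natCast, ← zpow_mul,
      mul_comm, zpow_mul, zpow_natCast, hy4, one_zpow]

end CfsgLib.MacWilliams
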